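import Cfsg.Agent.Lib.AllAbelian80.Field.Local

/-!
# Orders of `C(S)`, `N(S)` and `N(S) ⊓ C(u)`

Owner: helper80.
-/

set_option autoImplicit false
set_option linter.unusedSectionVars false
set_option linter.style.haveILetI false

universe u

namespace Cfsg.Agent.Lib.AllAbelian80

open Subgroup Cfsg.Agent.Lib.Walter Cfsg.Agent.Lib.Walter.NoField Cfsg.Agent.Lib.Walter66

variable {G : Type u} [Group G]

theorem card_mul_relIndex' {H K : Subgroup G} (h : H ≤ K) :
    Nat.card H * H.relIndex K = Nat.card K := by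
  rw [← Nat.card_congr (subgroupOfEquivOfLe h).toEquiv]
  exact (H.subgroupOf K).card_mul_index

theorem card_map_mul {G' : Type*} [Group G'] (f : G →* G') (K : Subgroup G) :
    Nat.card (K.map f) * Nat.card ↥(f.ker ⊓ K) = Nat.card K := by
  rw [← relIndex_ker, ← Nat.card_congr (subgroupOfEquivOfLe (inf_le_right : f.ker ⊓ K ≤ K)).toEquiv,
    inf_subgroupOf_right]
  exact (f.ker.subgroupOf K).index_mul_card

variable [Finite G] {S : Sylow 2 G} {u : G} {E E₀ : Subgroup G} (C : Ctx S u E E₀)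
include C

theorem card_centralizer_sylow :
    Nat.card ↥(centralizer ((S : Subgroup G) : Set G)) = 8 * Nat.card ↥(fieldPart S) := by
  have hmem : ∀ (f : fieldPart S) (s : (S : Subgroup G)),
      (f : G) * s ∈ centralizer ((S : Subgroup G) : Set G) := fun f s =>
    mul_mem (fieldPart_le_centralizer S f.2) (mem_centralizer_iff.2 fun t ht => C.comm ht s.2)
  let φ : ↥(fieldPart S) × ↥(S : Subgroup G) → ↥(centralizer ((S : Subgroup G) : Set G)) :=
    fun p => ⟨_, hmem p.1 p.2⟩
  have hbij : Function.Bijective φ := by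
    constructor
    · rintro ⟨f, s⟩ ⟨f', s'⟩ h
      have h' : (f : G) * s = f' * s' := congrArg Subtype.val h
      have e : (f' : G)⁻¹ * f = s' * (s : G)⁻¹ := by
        calc (f' : G)⁻¹ * f = (f' : G)⁻¹ * (f * s) * (s : G)⁻¹ := by group
          _ = _ := by rw [h']; group
      have h1 : (f' : G)⁻¹ * f = 1 := JRBal.eq_one_of_sq_odd (odd_fieldPart S)
        (mul_mem (inv_mem f'.2) f.2) (by rw [e]; exact C.sq (mul_mem s'.2 (inv_mem s.2)))
      have hf : f' = f := Subtype.ext (inv_mul_eq_one.1 h1)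
      subst hf
      exact Prod.ext rfl (Subtype.ext (mul_left_cancel h'))
    · rintro ⟨c, hc⟩
      obtain ⟨f, hf, s, hs, rfl⟩ := C.exists_mul_fieldPart hc
      exact ⟨(⟨f, hf⟩, ⟨s, hs⟩), rfl⟩
  rw [← Nat.card_congr (Equiv.ofBijective φ hbij), Nat.card_prod, C.jr.card_sylow S, mul_comm]

theorem card_normalizer_sylow :
    Nat.card ↥(normalizer ((S : Subgroup G) : Set G)) = 168 * Nat.card ↥(fieldPart S) := by
  rw [← card_mul_relIndex' (centralizer_le_normalizer ((S : Subgroup G) : Set G)),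
    C.relIndex_centralizer, card_centralizer_sylow C]
  ring

theorem card_normalizer_inf :
    Nat.card ↥(normalizer ((S : Subgroup G) : Set G) ⊓ centralizer ({u} : Set G)) =
      24 * Nat.card ↥(fieldPart S) := by
  rw [← card_mul_relIndex' (le_inf (centralizer_le_normalizer ((S : Subgroup G) : Set G))
      (centralizer_le (Set.singleton_subset_iff.2 C.mem))),
    C.relIndex_centralizer_inf, card_centralizer_sylow C]
  ring

omit C in
theorem not_comm_of_jr (jr : IsJR G) : ¬ IsMulCommutative G := by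
  intro h
  obtain ⟨S⟩ : Nonempty (Sylow 2 G) := inferInstance
  haveI : Nontrivial (S : Subgroup G) := by
    rw [← Finite.one_lt_card_iff_nontrivial]
    rw [jr.card_sylow S]
    norm_num
  obtain ⟨⟨u, hu⟩, hu1⟩ := exists_ne (1 : (S : Subgroup G))
  have hu' : u ≠ 1 := fun h => hu1 (Subtype.ext h)
  have hord : orderOf u = 2 := orderOf_eq_prime (by rw [pow_two]; exact IsJR.sq_mem jr S hu) hu'
  obtain ⟨E, E₀, hE⟩ := jr.centralizer u hord
  have C : Ctx S u E E₀ := ⟨jr, hord, hu, hE⟩
  obtain ⟨a, b, r, T, -, -⟩ := C.exists_tri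
  obtain ⟨g, hg⟩ := isConj_iff.1 (jr.conj u a hord T.ha)
  have : g * u * g⁻¹ = u := by rw [h.is_comm.comm g u, mul_inv_cancel_right]
  exact C.conf.not_mem ((this.symm.trans hg) ▸ C.conf.le T.amem)

theorem cent_ne_top {x : G} (hx1 : x ≠ 1) : centralizer ({x} : Set G) ≠ ⊤ := by
  intro h
  haveI := C.jr.simple
  have hz : x ∈ Subgroup.center G := Subgroup.mem_center_iff.2 fun g =>
    mem_centralizer_singleton_iff.1 (h ▸ mem_top g)
  rcases (inferInstance : (Subgroup.center G).Normal).eq_bot_or_eq_top with hb | ht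
  · exact hx1 (mem_bot.1 (hb ▸ hz))
  · exact not_comm_of_jr C.jr ⟨⟨fun a b => Subgroup.mem_center_iff.1 (ht ▸ mem_top b) a⟩⟩

end Cfsg.Agent.Lib.AllAbelian80
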