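import Cfsg.Agent.Lib.AllAbelian80.AllAb
import Cfsg.Agent.Lib.AllAbelian80.Field.Counting
import Cfsg.Agent.Lib.Walter.KnownFactsJR
import Cfsg.Agent.Lib.J1Cent.Main
import Cfsg.Agent.Lib.SporMatrix.J1
import Cfsg.Agent.Lib.Linear.Order
import Cfsg.Agent.Lib.SolvCentAb12.Lift
import Cfsg.Agent.S2065

/-!
# Facts on the three kinds of sections

`L₂(8)` and `J₁`: centralisers of involutions and fusion; groups of Janko–Ree type with
`|C(u)| = 120` have no field part.

Owner: helper80.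
-/

set_option autoImplicit false
set_option linter.unusedSectionVars false
set_option linter.style.haveILetI false

universe u

namespace Cfsg.Agent.Lib.AllAbelian80

open Subgroup Cfsg.Agent.Lib.Walter Cfsg.Agent.Lib.Walter.NoField Cfsg.Agent.Lib.Walter66

variable {L : Type u} [Group L] [Finite L]

/-- In `PSL(2, 2ⁿ)` the Sylow 2-subgroup is the centraliser of each of its involutions and these are conjugate. -/
theorem even_type_facts (hL : IsEvenType L) (h16 : ¬ 16 ∣ Nat.card L) :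
    Nat.card L = 504 ∧
      ∀ u v : L, orderOf u = 2 → orderOf v = 2 →
        IsConj u v ∧ ∀ P : Sylow 2 L, u ∈ (P : Subgroup L) →
          centralizer ({u} : Set L) = (P : Subgroup L) := by
  obtain ⟨n, F, _, _, hn, hF, ⟨e⟩⟩ := hL
  haveI : Fact (Nat.Prime 2) := ⟨Nat.prime_two⟩
  haveI : CharP F 2 := by
    obtain ⟨p, hp⟩ := CharP.exists F
    obtain ⟨k, hpp, hk⟩ := FiniteField.card F p
    have h : p ∣ 2 ^ n := hF ▸ hk ▸ dvd_pow_self p k.pos.ne'
    rw [← (Nat.prime_dvd_prime_iff_eq hpp Nat.prime_two).1 (hpp.dvd_of_dvd_pow h)]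
    exact hp
  have hcard : Nat.card L = 2 ^ n * (2 ^ n - 1) * (2 ^ n + 1) := by
    rw [Nat.card_congr e.toEquiv, Linear.card_PSL_two_of_even (hF ▸ (Nat.even_pow.2 ⟨even_two, by omega⟩)),
      hF]
  have hn3 : n = 3 := by
    by_contra h
    refine h16 (hcard ▸ (Dvd.dvd.mul_right (Dvd.dvd.mul_right ?_ _) _))
    exact (show 16 = 2 ^ 4 by norm_num) ▸ pow_dvd_pow 2 (by omega)
  subst hn3
  have hf := Known.even_facts (by omega : 2 ≤ 3) hF e
  refine ⟨hcard.trans (by norm_num), fun u v hu hv => ⟨?_, fun P huP => ?_⟩⟩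
  · obtain ⟨P⟩ : Nonempty (Sylow 2 L) := inferInstance
    have key : ∀ w : L, orderOf w = 2 → ∃ w', IsConj w w' ∧ w' ∈ (P : Subgroup L) ∧ w' ≠ 1 := by
      intro w hw
      obtain ⟨Q, hQ⟩ := (IsPGroup.of_card (G := zpowers w) (n := 1)
        (by rw [Nat.card_zpowers, hw, pow_one])).exists_le_sylow
      obtain ⟨g, hg⟩ := MulAction.exists_smul_eq L Q P
      refine ⟨g * w * g⁻¹, isConj_iff.2 ⟨g, rfl⟩, ?_, fun h =>
        ne_one_of_ord hw (conj_eq_one_iff.1 h)⟩
      rw [← hg, Sylow.coe_subgroup_smul]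
      exact Subgroup.smul_mem_pointwise_smul (a := MulAut.conj g) w _ (hQ (mem_zpowers w))
    obtain ⟨u', hu', huP, hu1⟩ := key u hu
    obtain ⟨v', hv', hvP, hv1⟩ := key v hv
    obtain ⟨m, -, -, hm⟩ := hf.torus P
    obtain ⟨k, hk⟩ := hm u' huP hu1 v' hvP hv1
    exact hu'.trans ((isConj_iff.2 ⟨m ^ k, hk⟩).trans hv'.symm)
  · have hle : (P : Subgroup L) ≤ centralizer ({u} : Set L) := fun z hz =>
      mem_centralizer_singleton_iff.2
        (congrArg Subtype.val ((hf.elementary P).1.is_comm.comm ⟨z, hz⟩ ⟨u, huP⟩))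
    refine P.3 ?_ hle
    intro z
    refine ⟨1, Subtype.ext ?_⟩
    have hz := mem_centralizer_singleton_iff.1 z.2
    show (z : L) ^ (2 ^ 1) = 1
    rw [pow_one, pow_two]
    apply e.injective
    rw [map_mul, map_one]
    exact Known.psl_exponent_two (u := e u) (by rw [MulEquiv.orderOf_eq, hu])
      (by rw [← map_mul, ← map_mul, hz])

/-- Centralisers of involutions of a group isomorphic to `J₁`. -/
theorem card_centralizer_J1 (jr : IsJR L) (e : L ≃* ↥Cfsg.Spor.J1) {u : L} (hu : orderOf u = 2) :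
    Nat.card ↥(centralizer ({u} : Set L)) = 120 := by
  set t := e.symm J1Cent.t with ht
  have hto : orderOf t = 2 := by rw [ht, MulEquiv.orderOf_eq, J1Cent.orderOf_t]
  obtain ⟨g, hg⟩ := isConj_iff.1 (jr.conj u t hu hto)
  let f : L ≃* ↥Cfsg.Spor.J1 := (MulAut.conj g).trans e
  have hfu : f u = J1Cent.t := by
    show e (g * u * g⁻¹) = J1Cent.t
    rw [hg, ht, MulEquiv.apply_symm_apply]
  obtain ⟨c⟩ := J1Cent.centralizer_iso
  have hmap : (centralizer ({u} : Set L)).map f.toMonoidHom =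
      centralizer ({J1Cent.t} : Set ↥Cfsg.Spor.J1) := by
    ext z
    constructor
    · rintro ⟨w, hw, rfl⟩
      refine mem_centralizer_singleton_iff.2 ?_
      rw [← hfu]
      show f w * f u = f u * f w
      rw [← map_mul, ← map_mul, mem_centralizer_singleton_iff.1 hw]
    · intro hz
      refine ⟨f.symm z, mem_centralizer_singleton_iff.2 ?_, f.apply_symm_apply z⟩
      apply f.injective
      rw [map_mul, map_mul, f.apply_symm_apply, hfu]
      exact mem_centralizer_singleton_iff.1 hz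
  rw [Nat.card_congr ((centralizer ({u} : Set L)).equivMapOfInjective f.toMonoidHom f.injective).toEquiv,
    hmap, Nat.card_congr c.toEquiv, Nat.card_prod, PSL11.card_A5,
    show Nat.card (Multiplicative (ZMod 2)) = 2 by rw [Nat.card_eq_fintype_card]; rfl]

/-- With `|C(u)| = 120` there is no field part. -/
theorem fieldPart_eq_bot_of_card {S : Sylow 2 L} {u : L} {E E₀ : Subgroup L} (C : Ctx S u E E₀)
    (h : Nat.card ↥(centralizer ({u} : Set L)) = 120) : fieldPart S = ⊥ := by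
  obtain ⟨d⟩ := Walter.prod_equiv C.ord C.cent.1
  rw [Nat.card_congr d.toEquiv, Nat.card_prod,
    show Nat.card (Multiplicative (ZMod 2)) = 2 by rw [Nat.card_eq_fintype_card]; rfl] at h
  obtain ⟨K, _, _, hq, h5, ⟨φ⟩⟩ := C.cent.2.2.2.2.1
  obtain ⟨p, hp⟩ := CharP.exists K
  haveI := hp
  obtain ⟨k, hpp, hk⟩ := FiniteField.card K p
  haveI := Fact.mk hpp
  have hodd : Odd (Fintype.card K) := Nat.odd_iff.2 (by omega)
  have hle : Nat.card ↥E₀ ≤ 60 := (Subgroup.card_le_of_le C.conf.le).trans (by omega)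
  have hcardK : Fintype.card K ≤ 5 := by
    by_contra h6
    have h11 : 11 ≤ Fintype.card K := by omega
    have hg := Linear.gcd_mul_card_PSL_two (F := K)
    rw [← Nat.card_congr φ.toEquiv] at hg
    have hgcd : Nat.gcd 2 (Fintype.card K - 1) ≤ 2 := Nat.le_of_dvd two_pos (Nat.gcd_dvd_left _ _)
    have h1 : 11 * 10 * 12 ≤ Fintype.card K * (Fintype.card K - 1) * (Fintype.card K + 1) :=
      Nat.mul_le_mul (Nat.mul_le_mul h11 (by omega)) (by omega)
    have h2 : Nat.gcd 2 (Fintype.card K - 1) * Nat.card ↥E₀ ≤ 2 * 60 := Nat.mul_le_mul hgcd hle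
    omega
  have hk1 : (k : ℕ) = 1 := by
    by_contra hne
    have h4 : p ^ 2 ≤ p ^ (k : ℕ) := Nat.pow_le_pow_right hpp.pos (by have := k.pos; omega)
    have h5' : Fintype.card K = 5 := by omega
    rw [hk] at h5'
    have hp2 := hpp.two_le
    have hp3 : p = 2 := by nlinarith
    subst hp3
    have : 2 ∣ 5 := h5' ▸ dvd_pow_self 2 k.pos.ne'
    omega
  have hd := C.card_fieldPart_dvd K hodd φ (p := p) (f := k) hk
  rw [hk1, Nat.dvd_one] at hd
  exact Subgroup.card_eq_one.1 hd

/-- A normal subgroup isomorphic to `J₁` with trivial centraliser is everything. -/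
theorem eq_top_of_J1 {M : Subgroup L} [M.Normal] (e : ↥M ≃* ↥Cfsg.Spor.J1)
    (hc : centralizer (M : Set L) = ⊥) : M = ⊤ := by
  refine (Subgroup.eq_top_iff' M).2 fun q => ?_
  have h1 : MulAut.congr e (MulAut.conjNormal q) ∈ Cfsg.Inn ↥Cfsg.Spor.J1 := by
    rw [← QuotientGroup.eq_one_iff]
    haveI : Subsingleton (Cfsg.Out ↥Cfsg.Spor.J1) :=
      (Nat.card_eq_one_iff_unique.1 Cfsg.Agent.S2065.result).1
    exact Subsingleton.elim _ _
  obtain ⟨j, hj⟩ := h1
  have h2 : ∀ m : M, q * (m : L) * q⁻¹ = (e.symm j : L) * m * (e.symm j : L)⁻¹ := by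
    intro m
    have h3 := congrArg (fun α : MulAut ↥Cfsg.Spor.J1 => e.symm (α (e m))) hj
    simp only [MulAut.conj_apply, map_mul, map_inv, e.symm_apply_apply] at h3
    have h4 : e.symm ((MulAut.congr e (MulAut.conjNormal q)) (e m)) = MulAut.conjNormal q m := by
      simp [MulAut.congr]
    rw [h4] at h3
    have h5 := congrArg (fun z : M => (z : L)) h3
    simpa using h5.symm
  have h3 : (e.symm j : L)⁻¹ * q ∈ centralizer (M : Set L) := mem_centralizer_iff.2 fun m hm => by
    have h := h2 ⟨m, hm⟩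
    calc m * ((e.symm j : L)⁻¹ * q) = (e.symm j : L)⁻¹ * ((e.symm j : L) * m * (e.symm j : L)⁻¹) * q := by
          group
      _ = (e.symm j : L)⁻¹ * (q * m * q⁻¹) * q := by rw [← h]
      _ = _ := by group
  rw [hc, mem_bot, inv_mul_eq_one] at h3
  exact h3 ▸ (e.symm j).2

end Cfsg.Agent.Lib.AllAbelian80
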