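import Cfsg.Agent.Lib.OddOrder.FeitThompson
import Mathlib.LinearAlgebra.Matrix.GeneralLinearGroup.Defs
import Mathlib.GroupTheory.Solvable
import Mathlib.GroupTheory.Perm.Cycle.Type

/-!
# An element fixed by the automiser of a plane

A group of order prime to `l` acting on `⟨x⟩ × ⟨y⟩` of exponent `l`, containing an element fixing `x` and raising
`y` to a power `k` with `k² ≠ 1`, and mapping `x` to no other power of itself, fixes `x`.

Owner: helper80.
-/

set_option autoImplicit false
set_option linter.unusedSectionVars false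
set_option linter.style.haveILetI false

namespace Cfsg.Agent.Lib.AllAbelian80

open Subgroup Matrix

variable {l : ℕ} [hl : Fact l.Prime]

local notation "GL2" => GL (Fin 2) (ZMod l)

/-- The statement for matrix groups. -/
theorem fix_first (hl2 : l ≠ 2) (Γ : Subgroup GL2) (hcop : ¬ l ∣ Nat.card Γ) {g : GL2} (hg : g ∈ Γ)
    {κ : ZMod l} (hg00 : g.1 0 0 = 1) (hg10 : g.1 1 0 = 0) (hg01 : g.1 0 1 = 0) (hg11 : g.1 1 1 = κ)
    (hκ0 : κ ≠ 0) (hκ : κ * κ ≠ 1) (hline : ∀ γ ∈ Γ, γ.1 1 0 = 0 → γ.1 0 0 = 1) :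
    ∀ γ ∈ Γ, γ.1 1 0 = 0 ∧ γ.1 0 0 = 1 := by
  classical
  have h2 : (2 : ZMod l) ≠ 0 := by
    intro h
    have h' : ((2 : ℕ) : ZMod l) = 0 := by exact_mod_cast h
    rw [ZMod.natCast_eq_zero_iff] at h'
    exact hl2 ((Nat.prime_dvd_prime_iff_eq hl.out Nat.prime_two).1 h')
  haveI : Finite GL2 := inferInstance
  set Γ₁ : Subgroup GL2 := Γ ⊓ (Matrix.GeneralLinearGroup.det (n := Fin 2) (R := ZMod l)).ker with hΓ₁
  have hdet : ∀ {γ : GL2}, γ ∈ Γ₁ → γ.1 0 0 * γ.1 1 1 - γ.1 0 1 * γ.1 1 0 = 1 := by
    intro γ hγ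
    have h := congrArg Units.val (MonoidHom.mem_ker.1 (mem_inf.1 hγ).2)
    rw [Matrix.GeneralLinearGroup.val_det_apply, Matrix.det_fin_two] at h
    simpa using h
  have hnoinv : ∀ γ ∈ Γ₁, γ * γ = 1 → γ = 1 := by
    intro γ hγ hsq
    have hd := hdet hγ
    have e : γ.1 * γ.1 = 1 := by rw [← Units.val_mul, hsq, Units.val_one]
    have e00 := congrFun (congrFun e 0) 0
    have e01 := congrFun (congrFun e 0) 1
    have e10 := congrFun (congrFun e 1) 0
    have e11 := congrFun (congrFun e 1) 1
    simp [Matrix.mul_apply, Fin.sum_univ_two] at e00 e01 e10 e11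
    have ht : γ.1 0 0 + γ.1 1 1 ≠ 0 := by
      intro h0
      exact h2 (by linear_combination -hd - e00 + γ.1 0 0 * h0)
    have h10 : γ.1 1 0 = 0 := (mul_eq_zero.1 (show γ.1 1 0 * (γ.1 0 0 + γ.1 1 1) = 0 by
      linear_combination e10)).resolve_right ht
    have h01 : γ.1 0 1 = 0 := (mul_eq_zero.1 (show γ.1 0 1 * (γ.1 0 0 + γ.1 1 1) = 0 by
      linear_combination e01)).resolve_right ht
    have h00 := hline γ (mem_inf.1 hγ).1 h10
    have h11 : γ.1 1 1 = 1 := by rw [h00, h10] at hd; linear_combination hd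
    apply Units.ext
    ext i j
    fin_cases i <;> fin_cases j <;> simp [h00, h01, h10, h11]
  have hodd : Odd (Nat.card Γ₁) := by
    rw [← Nat.not_even_iff_odd, even_iff_two_dvd]
    intro hev
    haveI : Fact (Nat.Prime 2) := ⟨Nat.prime_two⟩
    obtain ⟨γ, hγ⟩ := exists_prime_orderOf_dvd_card' 2 hev
    have h := hnoinv γ.1 γ.2 (by
      have h' := congrArg Subtype.val (pow_orderOf_eq_one γ)
      rw [hγ, pow_two] at h'
      exact h')
    rw [show γ = 1 from Subtype.ext h, orderOf_one] at hγ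
    omega
  -- an element commuting with its conjugate by `g` is trivial
  have key : ∀ n ∈ Γ₁, n * (g * n * g⁻¹) = (g * n * g⁻¹) * n → n = 1 := by
    intro n hn hc
    obtain ⟨m, hm⟩ : ∃ m, m = g * n * g⁻¹ := ⟨_, rfl⟩
    rw [← hm] at hc
    have hmg : m * g = g * n := by rw [hm, inv_mul_cancel_right]
    have e := congrArg Units.val hmg
    rw [Units.val_mul, Units.val_mul] at e
    have m00 := congrFun (congrFun e 0) 0
    have m01 := congrFun (congrFun e 0) 1
    have m10 := congrFun (congrFun e 1) 0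
    have m11 := congrFun (congrFun e 1) 1
    simp [Matrix.mul_apply, Fin.sum_univ_two, hg00, hg10, hg01, hg11] at m00 m01 m10 m11
    have c := congrArg Units.val hc
    rw [Units.val_mul, Units.val_mul] at c
    have c00 := congrFun (congrFun c 0) 0
    have c01 := congrFun (congrFun c 0) 1
    have c10 := congrFun (congrFun c 1) 0
    simp [Matrix.mul_apply, Fin.sum_univ_two] at c00 c01 c10
    have hm11 : m.1 1 1 = n.1 1 1 := mul_right_cancel₀ hκ0 (by rw [m11]; ring)
    rw [m00, m10] at c00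
    rw [m00, hm11] at c01
    rw [m00, m10, hm11] at c10
    have hκ1 : κ ≠ 1 := fun h => hκ (by rw [h, one_mul])
    have hbc : n.1 0 1 * n.1 1 0 = 0 := by
      refine (mul_eq_zero.1 (show n.1 0 1 * n.1 1 0 * (κ * κ - 1) = 0 from ?_)).resolve_right
        (sub_ne_zero.2 hκ)
      linear_combination κ * c00 + n.1 1 0 * m01
    have hd := hdet hn
    rw [hbc, sub_zero] at hd
    by_cases had : n.1 0 0 = n.1 1 1
    · -- scalar diagonal: `n` is unipotent
      have hsq : n.1 0 0 * n.1 0 0 = 1 := by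
        calc n.1 0 0 * n.1 0 0 = n.1 0 0 * n.1 1 1 := by rw [← had]
          _ = 1 := hd
      have h11 : n.1 0 0 = 1 := by
        rcases mul_self_eq_one_iff.1 hsq with h | h
        · exact h
        · exfalso
          -- `-n` would be unipotent, and then `n ^ l = -1`
          have hN : (n.1 - Matrix.scalar (Fin 2) (-1 : ZMod l)) * (n.1 - Matrix.scalar (Fin 2) (-1)) = 0 := by
            rcases mul_eq_zero.1 hbc with hz | hz <;>
              (ext i j; fin_cases i <;> fin_cases j <;>
                simp [Matrix.mul_apply, Fin.sum_univ_two, hz, h, ← had])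
          have hpow : ∀ i : ℕ, n.1 ^ i = Matrix.scalar (Fin 2) ((-1 : ZMod l) ^ i) +
              Matrix.scalar (Fin 2) (-(i : ZMod l) * (-1) ^ i) * (n.1 - Matrix.scalar (Fin 2) (-1)) := by
            intro i
            induction i with
            | zero => simp
            | succ i ih =>
              have hn' : n.1 = Matrix.scalar (Fin 2) (-1 : ZMod l) + (n.1 - Matrix.scalar (Fin 2) (-1)) := by
                abel
              rw [pow_succ, ih]
              conv_lhs => rw [hn']
              simp only [add_sub_cancel]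
              rcases mul_eq_zero.1 hbc with hz | hz <;>
                (ext a c; fin_cases a <;> fin_cases c <;>
                  simp [Matrix.mul_apply, Fin.sum_univ_two, hz, h, ← had, pow_succ] <;> ring)
          have hlast := hpow l
          rw [ZMod.natCast_self, neg_zero, zero_mul, map_zero, zero_mul, add_zero,
            Odd.neg_one_pow (hl.out.odd_of_ne_two hl2)] at hlast
          have hmem : n ^ l ∈ Γ := pow_mem (mem_inf.1 hn).1 _
          have := hline _ hmem (by rw [Units.val_pow_eq_pow_val, hlast]; simp)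
          rw [Units.val_pow_eq_pow_val, hlast] at this
          simp at this
          exact h2 (by linear_combination -this)
      have hN : (n.1 - 1) * (n.1 - 1) = 0 := by
        rcases mul_eq_zero.1 hbc with hz | hz <;>
          (ext i j; fin_cases i <;> fin_cases j <;>
            simp [Matrix.mul_apply, Fin.sum_univ_two, hz, h11, ← had])
      have hpow : ∀ i : ℕ, n.1 ^ i = 1 + (i : ZMod l) • (n.1 - 1) := by
        intro i
        induction i with
        | zero => simp
        | succ i ih =>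
          rw [pow_succ, ih]
          have : (1 + (i : ZMod l) • (n.1 - 1)) * n.1 = (1 + (i : ZMod l) • (n.1 - 1)) * (1 + (n.1 - 1)) := by
            rw [add_sub_cancel]
          rw [this, add_mul, one_mul, smul_mul_assoc, mul_add, mul_one, hN, add_zero, Nat.cast_succ,
            add_smul, one_smul]
          abel
      have hnl : n ^ l = 1 := Units.ext (by
        rw [Units.val_pow_eq_pow_val, hpow, ZMod.natCast_self, zero_smul, add_zero, Units.val_one])
      rcases (Nat.dvd_prime hl.out).1 (orderOf_dvd_of_pow_eq_one hnl) with h1 | h1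
      · exact orderOf_eq_one_iff.1 h1
      · have hdn := Subgroup.orderOf_dvd_natCard Γ (mem_inf.1 hn).1
        rw [h1] at hdn
        exact absurd hdn hcop
    · -- diagonal
      have hb : n.1 0 1 = 0 := by
        refine (mul_eq_zero.1 (show n.1 0 1 * ((n.1 0 0 - n.1 1 1) * (κ - 1)) = 0 from ?_)).resolve_right
          (mul_ne_zero (sub_ne_zero.2 had) (sub_ne_zero.2 hκ1))
        linear_combination -κ * c01 + (n.1 0 0 - n.1 1 1) * m01
      have hcz : n.1 1 0 = 0 := by
        refine (mul_eq_zero.1 (show n.1 1 0 * ((n.1 0 0 - n.1 1 1) * (κ - 1)) = 0 from ?_)).resolve_right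
          (mul_ne_zero (sub_ne_zero.2 had) (sub_ne_zero.2 hκ1))
        linear_combination -c10
      have h00 := hline n (mem_inf.1 hn).1 hcz
      rw [h00, one_mul] at hd
      exact absurd (h00.trans hd.symm) had
  -- hence `Γ₁ = 1`
  have hbot : Γ₁ = ⊥ := by
    haveI : Group.IsSolvable Γ₁ := OddOrder.FeitThompson.isSolvable_of_odd_card hodd
    by_contra hne
    have hex : ∃ i, derivedSeries Γ₁ i = ⊥ := (Group.isSolvable_def _).1 inferInstance
    set j := Nat.find hex
    have hj0 : j ≠ 0 := by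
      intro h
      have := Nat.find_spec hex
      rw [show Nat.find hex = 0 from h, derivedSeries_zero] at this
      refine hne (Γ₁.eq_bot_iff_forall.2 fun z hz => ?_)
      have hz' : (⟨z, hz⟩ : Γ₁) ∈ (⊥ : Subgroup Γ₁) := this ▸ mem_top _
      exact congrArg Subtype.val (mem_bot.1 hz')
    obtain ⟨i, hi⟩ := Nat.exists_eq_succ_of_ne_zero hj0
    have hD : derivedSeries Γ₁ i ≠ ⊥ := Nat.find_min hex (by omega)
    have hab : ∀ a ∈ derivedSeries Γ₁ i, ∀ c ∈ derivedSeries Γ₁ i, a * c = c * a := by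
      intro a ha c hc
      have h := Nat.find_spec hex
      rw [show Nat.find hex = i + 1 from hi, derivedSeries_succ] at h
      exact commutatorElement_eq_one_iff_mul_comm.1 (mem_bot.1 (h ▸ commutator_mem_commutator ha hc))
    have hgN : ∀ z ∈ Γ₁, g * z * g⁻¹ ∈ Γ₁ := fun z hz => mem_inf.2
      ⟨mul_mem (mul_mem hg (mem_inf.1 hz).1) (inv_mem hg),
        (MonoidHom.normal_ker _).conj_mem z (mem_inf.1 hz).2 g⟩
    let cg : Γ₁ →* Γ₁ := MonoidHom.mk' (fun z => ⟨g * z.1 * g⁻¹, hgN z.1 z.2⟩)
      fun a c => Subtype.ext (by simp only [Subgroup.coe_mul]; group)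
    refine hD ((eq_bot_iff_forall _).2 fun z hz => Subtype.ext (key z.1 z.2 ?_))
    exact congrArg Subtype.val (hab z hz (cg z)
      (map_derivedSeries_le_derivedSeries cg i (mem_map_of_mem cg hz)))
  intro γ hγ
  have hc : γ * g = g * γ := by
    have hmem : γ * g * γ⁻¹ * g⁻¹ ∈ Γ₁ := mem_inf.2
      ⟨mul_mem (mul_mem (mul_mem hγ hg) (inv_mem hγ)) (inv_mem hg), by
        rw [MonoidHom.mem_ker]
        simp only [map_mul, map_inv]
        rw [mul_comm (Matrix.GeneralLinearGroup.det γ) (Matrix.GeneralLinearGroup.det g),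
          mul_inv_cancel_right, mul_inv_cancel]⟩
    rw [hbot, mem_bot, mul_inv_eq_one, mul_inv_eq_iff_eq_mul] at hmem
    exact hmem
  have e := congrArg Units.val hc
  rw [Units.val_mul, Units.val_mul] at e
  have c10 := congrFun (congrFun e 1) 0
  simp [Matrix.mul_apply, Fin.sum_univ_two, hg00, hg10, hg11] at c10
  have hκ1 : κ ≠ 1 := fun h => hκ (by rw [h, one_mul])
  have h10 : γ.1 1 0 = 0 := (mul_eq_zero.1 (show γ.1 1 0 * (κ - 1) = 0 by
    linear_combination -c10)).resolve_right (sub_ne_zero.2 hκ1)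
  exact ⟨h10, hline γ hγ h10⟩

/-- The statement for groups. -/
theorem fix_of_plane {G : Type*} [Group G] [Finite G] (hl2 : l ≠ 2) {x y b : G} {k : ℕ}
    (hxy : x * y = y * x) (hx : x ^ l = 1) (hy : y ^ l = 1) (hx1 : x ≠ 1) (hyx : y ∉ zpowers x)
    (K : Subgroup G)
    (hK : ∀ n ∈ K, n * x * n⁻¹ ∈ closure ({x, y} : Set G) ∧ n * y * n⁻¹ ∈ closure ({x, y} : Set G))
    (hbK : b ∈ K) (hbx : b * x = x * b) (hby : b * y * b⁻¹ = y ^ k) (hk : k * k % l ≠ 1)
    (hpow : ∀ n ∈ K, ∀ i : ℕ, n * x * n⁻¹ = x ^ i → n * x * n⁻¹ = x)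
    (A : Subgroup G) (hA : ∀ a ∈ A, a * x = x * a ∧ a * y = y * a) (hidx : ¬ l ∣ A.relIndex K) :
    ∀ n ∈ K, n * x = x * n := by
  classical
  have hox : orderOf x = l := orderOf_eq_prime hx hx1
  have hoy : orderOf y = l := orderOf_eq_prime hy fun h => hyx (h ▸ one_mem _)
  let f : (Fin 2 → ZMod l) → G := fun v => x ^ (v 0).val * y ^ (v 1).val
  have hval : ∀ (z : G), orderOf z = l → ∀ a c : ZMod l, z ^ (a + c).val = z ^ a.val * z ^ c.val := by
    intro z hz a c
    rw [← pow_add, ZMod.val_add, ← pow_mod_orderOf z (a.val + c.val), hz]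
  have hcm : Commute x y := hxy
  have hadd : ∀ v w, f (v + w) = f v * f w := by
    intro v w
    simp only [f, Pi.add_apply, hval x hox, hval y hoy]
    exact ((hcm.pow_pow (w 0).val (v 1).val).symm.mul_mul_mul_comm _ _).symm
  have hzero : f 0 = 1 := by simp [f]
  have hinj : Function.Injective f := by
    intro v w h
    have h0 : f (v - w) = 1 := by
      have := hadd (v - w) w
      rw [sub_add_cancel, h] at this
      exact mul_right_cancel (b := f w) (by rw [one_mul]; exact this.symm)
    have h1 : y ^ ((v - w) 1).val ∈ zpowers x := by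
      rw [show y ^ ((v - w) 1).val = (x ^ ((v - w) 0).val)⁻¹ from
        eq_inv_of_mul_eq_one_right h0]
      exact inv_mem (pow_mem (mem_zpowers x) _)
    have h2 : (v - w) 1 = 0 := by
      by_contra h3
      refine hyx ?_
      have hcop : (((v - w) 1).val).Coprime (orderOf y) := by
        rw [hoy]
        exact (hl.out.coprime_iff_not_dvd.2 fun hd => h3 ((ZMod.val_eq_zero _).1
          (Nat.eq_zero_of_dvd_of_lt hd (ZMod.val_lt _)))).symm
      obtain ⟨j, hj⟩ := exists_pow_eq_self_of_coprime hcop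
      rw [← hj]
      exact pow_mem h1 _
    have h3 : (v - w) 0 = 0 := by
      simp only [f, h2, ZMod.val_zero, pow_zero, mul_one] at h0
      rw [← ZMod.val_eq_zero]
      have hd := orderOf_dvd_of_pow_eq_one h0
      rw [hox] at hd
      exact Nat.eq_zero_of_dvd_of_lt hd (ZMod.val_lt _)
    rw [← sub_eq_zero]
    funext i
    fin_cases i <;> simpa using by assumption
  have hnsmul : ∀ (m : ℕ) v, f (m • v) = f v ^ m := by
    intro m v
    induction m with
    | zero => simp [hzero]
    | succ m ih => rw [succ_nsmul, hadd, ih, pow_succ]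
  have hfx : f ![1, 0] = x := by simp [f, ZMod.val_one]
  have hfy : f ![0, 1] = y := by simp [f, ZMod.val_one]
  have hsurj : ∀ z ∈ closure ({x, y} : Set G), ∃ v, f v = z := by
    intro z hz
    induction hz using Subgroup.closure_induction with
    | mem z hz =>
      rcases hz with rfl | rfl
      exacts [⟨_, hfx⟩, ⟨_, hfy⟩]
    | one => exact ⟨0, hzero⟩
    | mul a c _ _ ha hc =>
      obtain ⟨v, rfl⟩ := ha
      obtain ⟨w, rfl⟩ := hc
      exact ⟨v + w, hadd v w⟩
    | inv a _ ha =>
      obtain ⟨v, rfl⟩ := ha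
      exact ⟨-v, eq_inv_of_mul_eq_one_left (by rw [← hadd, neg_add_cancel, hzero])⟩
  choose vx hvx using fun n : K => hsurj _ (hK n n.2).1
  choose vy hvy using fun n : K => hsurj _ (hK n n.2).2
  let M : K → Matrix (Fin 2) (Fin 2) (ZMod l) := fun n => Matrix.of fun i j => if j = 0 then vx n i else vy n i
  have hM : ∀ (n : K) v, f (M n *ᵥ v) = n * f v * (n : G)⁻¹ := by
    intro n v
    have e : M n *ᵥ v = (v 0).val • vx n + (v 1).val • vy n := by
      funext i
      simp only [Pi.add_apply, Pi.mul_apply, Pi.natCast_apply, nsmul_eq_mul, ZMod.natCast_zmod_val]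
      simp [M, Matrix.mulVec, dotProduct, Fin.sum_univ_two, mul_comm]
    rw [e, hadd, hnsmul, hnsmul, hvx, hvy, conj_pow, conj_pow]
    simp only [f]
    group
  have hext : ∀ A B : Matrix (Fin 2) (Fin 2) (ZMod l), (∀ v, A *ᵥ v = B *ᵥ v) → A = B := fun A B h =>
    Matrix.ext_of_mulVec_single fun i => h _
  have hone : M 1 = 1 := hext _ _ fun v => hinj (by rw [hM, Matrix.one_mulVec]; simp)
  have hmul : ∀ a c, M (a * c) = M a * M c := fun a c => hext _ _ fun v => hinj (by
    rw [hM, ← Matrix.mulVec_mulVec, hM, hM, Subgroup.coe_mul]; group)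
  let φ : K →* GL2 := MonoidHom.toHomUnits { toFun := M, map_one' := hone, map_mul' := hmul }
  have hφ : ∀ n, (φ n).1 = M n := fun n => rfl
  have hcol : ∀ (n : K), (φ n).1 1 0 = 0 → (n : G) * x * (n : G)⁻¹ = x ^ ((φ n).1 0 0).val := by
    intro n h10
    rw [hφ] at h10 ⊢
    have : vx n = ![M n 0 0, 0] := by
      funext i
      fin_cases i
      · simp [M]
      · simpa [M] using h10
    rw [← hvx, this]
    simp [f]
  have hline : ∀ γ ∈ φ.range, γ.1 1 0 = 0 → γ.1 0 0 = 1 := by
    rintro _ ⟨n, rfl⟩ h10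
    have h := hcol n h10
    have h' := (hpow n n.2 _ h).symm.trans h
    have : f ![1, 0] = f ![(φ n).1 0 0, 0] := by
      rw [hfx]
      simpa [f] using h'
    exact (congrFun (hinj this) 0).symm
  have hcop : ¬ l ∣ Nat.card φ.range := by
    intro hd
    rw [← Subgroup.index_ker] at hd
    refine hidx (hd.trans ?_)
    refine Subgroup.index_dvd_of_le fun n hn => ?_
    obtain ⟨ha, hb⟩ := hA _ (mem_subgroupOf.1 hn)
    rw [MonoidHom.mem_ker]
    refine Units.ext ?_
    rw [hφ, Units.val_one]
    refine hext _ _ fun v => hinj ?_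
    rw [hM, Matrix.one_mulVec]
    simp only [f]
    rw [← mul_assoc, ((show Commute (n : G) x from ha).pow_right _).eq, mul_assoc (x ^ _),
      ((show Commute (n : G) y from hb).pow_right _).eq, ← mul_assoc, mul_inv_cancel_right]
  have hbM : vx ⟨b, hbK⟩ = ![1, 0] ∧ vy ⟨b, hbK⟩ = ![0, (k : ZMod l)] := by
    refine ⟨hinj ?_, hinj ?_⟩
    · rw [hvx, hfx]
      show b * x * b⁻¹ = x
      rw [hbx, mul_inv_cancel_right]
    · rw [hvy, show b * y * b⁻¹ = y ^ k from hby]
      show y ^ k = _
      simp only [f, Matrix.cons_val_zero, Matrix.cons_val_one, ZMod.val_zero, pow_zero, one_mul,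
        ZMod.val_natCast, ← hoy, pow_mod_orderOf]
  have hk0 : (k : ZMod l) ≠ 0 := by
    intro h0
    refine hyx ?_
    have : y ^ k = 1 := by
      rw [← pow_mod_orderOf, hoy, ← ZMod.val_natCast, h0, ZMod.val_zero, pow_zero]
    rw [this] at hby
    rw [conj_eq_one_iff.1 hby]
    exact one_mem _
  have hk1 : (k : ZMod l) * k ≠ 1 := fun h => hk (by
    rw [← ZMod.val_natCast, Nat.cast_mul, h, ZMod.val_one])
  intro n hn
  have hres := fix_first hl2 φ.range hcop (g := φ ⟨b, hbK⟩) ⟨_, rfl⟩
    (κ := (k : ZMod l)) (by simp [hφ, M, hbM.1]) (by simp [hφ, M, hbM.1]) (by simp [hφ, M, hbM.2])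
    (by simp [hφ, M, hbM.2]) hk0 hk1 hline (φ ⟨n, hn⟩) ⟨_, rfl⟩
  have h := hcol ⟨n, hn⟩ hres.1
  rw [hres.2, ZMod.val_one, pow_one] at h
  exact mul_inv_eq_iff_eq_mul.1 h

end Cfsg.Agent.Lib.AllAbelian80
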