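import Cfsg.Agent.Lib.AllAbelian80.AllAb
import Cfsg.Agent.Lib.AllAbelian80.Field.Counting
import Cfsg.Agent.Lib.AllAbelian80.Field.Plane
import Mathlib.GroupTheory.Transfer

/-!
# An element of `F` fixed by `N(R)` is not in a simple group

Owner: helper80.
-/

set_option autoImplicit false
set_option linter.unusedSectionVars false
set_option linter.style.haveILetI false

universe u

namespace Cfsg.Agent.Lib.AllAbelian80

open Subgroup Cfsg.Agent.Lib.Walter Cfsg.Agent.Lib.Walter.NoField Cfsg.Agent.Lib.Walter66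

variable {G : Type u} [Group G] [Finite G] {S : Sylow 2 G} {u : G} {E E₀ : Subgroup G}

/-- A Sylow subgroup through an element of `F` is the one found in `C(x)`. -/
theorem exists_sylow_eq (hall : AllAb G) {x : G} {l : ℕ} [Fact l.Prime] {R₀ : Subgroup G}
    (hR₀ : IsPGroup l R₀) (hx : x ∈ R₀) {c n : ℕ} (hc : ¬ l ∣ c)
    (hdvd : Nat.card ↥(centralizer ({x} : Set G)) ∣ c * n) (hn : ∃ i, ¬ l ∣ i ∧ n ∣ i * Nat.card R₀) :
    ∃ R : Sylow l G, (R : Subgroup G) = R₀ := by
  obtain ⟨R, hR⟩ := hR₀.exists_le_sylow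
  obtain ⟨i, hi, hni⟩ := hn
  refine ⟨R, (Subgroup.eq_of_le_of_card_ge hR ?_).symm⟩
  have hRX : (R : Subgroup G) ≤ centralizer ({x} : Set G) := fun z hz =>
    mem_centralizer_singleton_iff.2 (hall.comm R.2 hz (hR hx))
  have h : Nat.card (R : Subgroup G) ∣ (c * i) * Nat.card R₀ := by
    refine (card_dvd_of_le hRX).trans (hdvd.trans ?_)
    rw [mul_assoc]
    exact Nat.mul_dvd_mul_left c hni
  obtain ⟨e, he⟩ := IsPGroup.iff_card.1 R.2
  refine Nat.le_of_dvd Nat.card_pos (Nat.Coprime.dvd_of_dvd_mul_left ?_ h)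
  rw [he]
  refine Nat.Coprime.pow_left _ ((Fact.out : l.Prime).coprime_iff_not_dvd.2 ?_)
  exact fun hd => (((Fact.out : l.Prime).dvd_mul.1 hd).elim hc hi)

/-- If `N(R)` fixes a non-trivial element of the abelian Sylow subgroup `R`, the group is not simple. -/
theorem false_of_central (hs : IsSimpleGroup G) (hna : ¬ IsMulCommutative G) {l : ℕ}
    [Fact l.Prime] (R : Sylow l G) (hR : IsMulCommutative (R : Subgroup G)) {x : G}
    (hxR : x ∈ (R : Subgroup G)) (hx1 : x ≠ 1)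
    (hfix : ∀ n ∈ normalizer ((R : Subgroup G) : Set G), n * x = x * n) : False := by
  haveI := hR
  open scoped IsMulCommutative in
  let τ : G →* ↥(R : Subgroup G) := MonoidHom.transfer (MonoidHom.id ↥(R : Subgroup G))
  have key : ∀ (k : ℕ) (g₀ : G), g₀⁻¹ * x ^ k * g₀ ∈ (R : Subgroup G) →
      g₀⁻¹ * x ^ k * g₀ = x ^ k := by
    intro k g₀ hk
    obtain ⟨n, hn, he⟩ := R.conj_eq_normalizer_conj_of_mem (x ^ k) g₀ (pow_mem hxR k) hk
    rw [he, mul_assoc, ← ((show Commute n x from hfix n hn).pow_right k).eq, inv_mul_cancel_left]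
  have hτ : (τ x : G) = x ^ (R : Subgroup G).index :=
    congrArg Subtype.val (MonoidHom.transfer_eq_pow _ x key)
  have hne : τ x ≠ 1 := by
    intro h
    rw [h] at hτ
    obtain ⟨e, he⟩ := IsPGroup.iff_orderOf.1 R.2 ⟨x, hxR⟩
    rw [Subgroup.orderOf_mk] at he
    have hd : l ^ e ∣ (R : Subgroup G).index := he ▸ orderOf_dvd_of_pow_eq_one hτ.symm
    rcases e with _ | e
    · exact hx1 (orderOf_eq_one_iff.1 (by simpa using he))
    · exact R.not_dvd_index ((dvd_pow_self l (Nat.succ_ne_zero e)).trans hd)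
  rcases hs.eq_bot_or_eq_top_of_normal τ.ker inferInstance with h | h
  · exact hna ⟨⟨fun a b => (MonoidHom.ker_eq_bot_iff τ).1 h (by
      rw [map_mul, map_mul]
      exact hR.is_comm.comm _ _)⟩⟩
  · exact hne (MonoidHom.mem_ker.1 (h ▸ mem_top x))

theorem mem_zpowers_of_fieldPart (C : Ctx S u E E₀) {l : ℕ} [hl : Fact l.Prime] {x z : G}
    (hx : x ∈ fieldPart S) (hox : orderOf x = l) (hz : z ∈ fieldPart S) (hzl : z ^ l = 1) :
    z ∈ zpowers x := by
  classical
  haveI := C.isCyclic_fieldPart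
  haveI : Fintype ↥(fieldPart S) := Fintype.ofFinite _
  by_contra h
  have h1 := IsCyclic.card_pow_eq_one_le (α := ↥(fieldPart S)) hl.out.pos
  have hsub : (insert (⟨z, hz⟩ : ↥(fieldPart S))
      ((zpowers (⟨x, hx⟩ : ↥(fieldPart S)) : Set ↥(fieldPart S)).toFinset)) ⊆
      Finset.univ.filter (fun a => a ^ l = 1) := by
    intro a ha
    rw [Finset.mem_filter]
    refine ⟨Finset.mem_univ _, ?_⟩
    rcases Finset.mem_insert.1 ha with rfl | ha
    · exact Subtype.ext hzl
    · rw [Set.mem_toFinset, SetLike.mem_coe] at ha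
      obtain ⟨i, rfl⟩ := mem_zpowers_iff.1 ha
      refine Subtype.ext ?_
      show ((x : G) ^ i) ^ l = 1
      rw [← zpow_natCast (x ^ i) l, ← zpow_mul, mul_comm i, zpow_mul, zpow_natCast, ← hox,
        pow_orderOf_eq_one, one_zpow]
  have h2 := (Finset.card_le_card hsub).trans h1
  rw [Finset.card_insert_of_notMem, Set.toFinset_card, ← Nat.card_eq_fintype_card,
    SetLike.coe_sort_coe, Nat.card_zpowers, Subgroup.orderOf_mk, hox] at h2
  · omega
  · rw [Set.mem_toFinset, SetLike.mem_coe]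
    intro hc
    obtain ⟨i, hi⟩ := mem_zpowers_iff.1 hc
    exact h (mem_zpowers_iff.2 ⟨i, congrArg Subtype.val hi⟩)

/-- An element of `F` in the Sylow subgroup `R` is centralised by `N(R)` in the two situations. -/
theorem false_of_sylow (hall : AllAb G) (C : Ctx S u E E₀) {l : ℕ} [hl : Fact l.Prime] (hl2 : l ≠ 2)
    {x : G} (hx : x ∈ fieldPart S) (hox : orderOf x = l) (R : Sylow l G)
    (hxR : x ∈ (R : Subgroup G))
    (h : (R : Subgroup G) ≤ fieldPart S ∨
      ((fieldPart S).relIndex (R : Subgroup G) ∣ l ∧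
        ∃ b ∈ normalizer ((R : Subgroup G) : Set G), b * x = x * b ∧
          ∃ k : ℕ, k * k % l ≠ 1 ∧ ∀ y ∈ (R : Subgroup G), b * y * b⁻¹ * (y ^ k)⁻¹ ∈ fieldPart S)) :
    False := by
  have hx1 : x ≠ 1 := fun h1 => hl.out.ne_one (by rw [← hox, h1, orderOf_one])
  haveI hRc := hall l hl.out R
  refine false_of_central C.jr.simple (not_comm_of_jr C.jr) R hRc hxR hx1 ?_
  set N := normalizer ((R : Subgroup G) : Set G)
  have hcR : ∀ a ∈ (R : Subgroup G), ∀ c ∈ (R : Subgroup G), a * c = c * a := fun a ha c hc =>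
    setLike_mul_comm ha hc
  have hNR : ∀ n ∈ N, ∀ z ∈ (R : Subgroup G), n * z * n⁻¹ ∈ (R : Subgroup G) := fun n hn z hz =>
    (mem_normalizer_iff.1 hn z).1 hz
  have hfix : ∀ {n : G}, n * x * n⁻¹ ∈ fieldPart S → n * x = x * n := fun {n} hn =>
    mul_inv_eq_iff_eq_mul.1 (C.conj_fieldPart_eq hx hn rfl).symm
  rcases h with hle | ⟨hrel, b, hbN, hbx, k, hk, hb⟩
  · exact fun n hn => hfix (hle (hNR n hn x hxR))
  intro n hn
  by_cases hcyc : ∀ z ∈ (R : Subgroup G), z ^ l = 1 → z ∈ zpowers x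
  · refine hfix ?_
    have h1 : n * x * n⁻¹ ∈ zpowers x := hcyc _ (hNR n hn x hxR)
      (by rw [conj_pow, ← hox, pow_orderOf_eq_one, mul_one, mul_inv_cancel])
    exact zpowers_le.2 hx h1
  push Not at hcyc
  obtain ⟨y₀, hy₀R, hy₀l, hy₀x⟩ := hcyc
  -- adjust `y₀` to an element raised to the power `k` by `b`
  obtain ⟨j, hj⟩ : ∃ j : ℕ, b * y₀ * b⁻¹ * (y₀ ^ k)⁻¹ = x ^ j := by
    have hzR := mul_mem (hNR b hbN y₀ hy₀R) (inv_mem (pow_mem hy₀R k))
    have hzl : (b * y₀ * b⁻¹ * (y₀ ^ k)⁻¹) ^ l = 1 := by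
      rw [(show Commute (b * y₀ * b⁻¹) (y₀ ^ k)⁻¹ from
        hcR _ (hNR b hbN y₀ hy₀R) _ (inv_mem (pow_mem hy₀R k))).mul_pow, conj_pow, hy₀l,
        inv_pow, ← pow_mul, mul_comm k l, pow_mul, hy₀l, one_pow, inv_one, mul_one, mul_one,
        mul_inv_cancel]
    obtain ⟨j, hj⟩ := (mem_powers_iff_mem_zpowers).2
      (mem_zpowers_of_fieldPart C hx hox (hb y₀ hy₀R) hzl)
    exact ⟨j, hj.symm⟩
  obtain ⟨t, ht⟩ : ∃ t : ℕ, (k * t) % l = (j + t) % l := by
    have hk1 : (k : ZMod l) - 1 ≠ 0 := by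
      intro h0
      refine hk ?_
      rw [← ZMod.val_natCast, Nat.cast_mul, sub_eq_zero.1 h0, mul_one, ZMod.val_one]
    refine ⟨((j : ZMod l) / ((k : ZMod l) - 1)).val, ?_⟩
    refine (ZMod.natCast_eq_natCast_iff' _ _ l).1 ?_
    rw [Nat.cast_mul, Nat.cast_add, ZMod.natCast_zmod_val]
    field_simp
    ring
  have hpmod : ∀ m : ℕ, x ^ m = x ^ (m % l) := fun m => by rw [← hox, pow_mod_orderOf]
  set y := y₀ * x ^ t with hy
  have hyR : y ∈ (R : Subgroup G) := mul_mem hy₀R (pow_mem hxR t)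
  have hyl : y ^ l = 1 := by
    rw [hy, (show Commute y₀ (x ^ t) from hcR _ hy₀R _ (pow_mem hxR t)).mul_pow, hy₀l, ← pow_mul,
      mul_comm, pow_mul, ← hox, pow_orderOf_eq_one, one_pow, mul_one]
  have hyx : y ∉ zpowers x := fun h => hy₀x (by
    rw [show y₀ = y * (x ^ t)⁻¹ by rw [hy, mul_inv_cancel_right]]
    exact mul_mem h (inv_mem (pow_mem (mem_zpowers x) t)))
  have hby : b * y * b⁻¹ = y ^ k := by
    have hc : Commute b x := hbx
    have e1 : b * x ^ t * b⁻¹ = x ^ t := by rw [(hc.pow_right t).eq, mul_inv_cancel_right]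
    have e2 : b * y₀ * b⁻¹ = x ^ j * y₀ ^ k := by rw [← hj, inv_mul_cancel_right]
    calc b * y * b⁻¹ = (b * y₀ * b⁻¹) * (b * x ^ t * b⁻¹) := by rw [hy]; group
      _ = y₀ ^ k * (x ^ j * x ^ t) := by
          rw [e1, e2, hcR _ (pow_mem hxR j) _ (pow_mem hy₀R k), mul_assoc]
      _ = y₀ ^ k * (x ^ t) ^ k := by rw [← pow_add, ← pow_mul, mul_comm t k, hpmod, ← ht, ← hpmod]
      _ = y ^ k := by
          rw [hy, (show Commute y₀ (x ^ t) from hcR _ hy₀R _ (pow_mem hxR t)).mul_pow]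
  have hyF : y ∉ fieldPart S := fun hyF => hyx (mem_zpowers_of_fieldPart C hx hox hyF hyl)
  -- the elements of exponent `l` of `R`
  have hΩ : ∀ z ∈ (R : Subgroup G), z ^ l = 1 → z ∈ closure ({x, y} : Set G) := by
    intro z hzR hzl
    set K := (fieldPart S).subgroupOf (R : Subgroup G) with hKdef
    haveI : K.Normal := ⟨fun a ha g => by rwa [hRc.is_comm.comm g a, mul_inv_cancel_right]⟩
    set M := K ⊔ zpowers (⟨y, hyR⟩ : ↥(R : Subgroup G)) with hMdef
    have htop : M = ⊤ := by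
      have hd : M.index ∣ l := (index_dvd_of_le le_sup_left).trans hrel
      rcases (Nat.dvd_prime hl.out).1 hd with h1 | h1
      · exact index_eq_one.1 h1
      · exfalso
        have hK : K.index = l := Nat.dvd_antisymm hrel
          ((dvd_of_eq h1.symm).trans (index_dvd_of_le le_sup_left))
        have h2 : K.relIndex M * M.index = K.index := relIndex_mul_index le_sup_left
        rw [h1, hK] at h2
        have h3 : M ≤ K := relIndex_eq_one.1
          (Nat.eq_of_mul_eq_mul_right hl.out.pos (h2.trans (one_mul l).symm))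
        exact hyF (mem_subgroupOf.1 (h3 (mem_sup_right (mem_zpowers _))))
    have hmem : (⟨z, hzR⟩ : ↥(R : Subgroup G)) ∈ K ⊔ zpowers (⟨y, hyR⟩ : ↥(R : Subgroup G)) := by
      rw [← hMdef, htop]
      exact mem_top _
    rw [Subgroup.mem_sup_of_normal_left] at hmem
    obtain ⟨f, hf, w, hw, hfw⟩ := hmem
    obtain ⟨i, rfl⟩ := mem_zpowers_iff.1 hw
    have hfG : (f : G) = z * (y ^ i)⁻¹ := by
      rw [eq_mul_inv_iff_mul_eq]
      simpa using congrArg Subtype.val hfw
    have hfl : (f : G) ^ l = 1 := by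
      rw [hfG, (show Commute z (y ^ i)⁻¹ from hcR _ hzR _ (inv_mem (zpow_mem hyR i))).mul_pow, hzl,
        inv_pow, ← zpow_natCast (y ^ i) l, ← zpow_mul, mul_comm, zpow_mul, zpow_natCast, hyl,
        one_zpow, inv_one, mul_one]
    have hfx : (f : G) ∈ zpowers x := mem_zpowers_of_fieldPart C hx hox (mem_subgroupOf.1 hf) hfl
    rw [show z = (f : G) * y ^ i by rw [hfG, inv_mul_cancel_right]]
    have hxc : x ∈ closure ({x, y} : Set G) := Subgroup.subset_closure (Or.inl rfl)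
    have hyc : y ∈ closure ({x, y} : Set G) := Subgroup.subset_closure (Or.inr rfl)
    exact mul_mem (zpowers_le.2 hxc hfx) (zpow_mem hyc i)
  have hA : ¬ l ∣ (centralizer ((R : Subgroup G) : Set G)).relIndex N := fun hd =>
    R.not_dvd_index ((hd.trans (relIndex_dvd_of_le_left N (le_centralizer (R : Subgroup G)))).trans
      (Dvd.intro _ (relIndex_mul_index le_normalizer)))
  refine fix_of_plane hl2 (x := x) (y := y) (b := b) (k := k) (hcR x hxR y hyR)
    (hox ▸ pow_orderOf_eq_one x) hyl hx1 hyx N (fun m hm => ⟨?_, ?_⟩) hbN hbx hby hk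
    (fun m hm i hmi => ?_) (centralizer ((R : Subgroup G) : Set G))
    (fun a ha => ⟨(mem_centralizer_iff.1 ha x hxR).symm, (mem_centralizer_iff.1 ha y hyR).symm⟩)
    hA n hn
  · exact hΩ _ (hNR m hm x hxR) (by rw [conj_pow, ← hox, pow_orderOf_eq_one, mul_one, mul_inv_cancel])
  · exact hΩ _ (hNR m hm y hyR) (by rw [conj_pow, hyl, mul_one, mul_inv_cancel])
  · exact (C.conj_fieldPart_eq hx (hmi ▸ pow_mem hx i) rfl).symm

end Cfsg.Agent.Lib.AllAbelian80
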