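import Cfsg.Agent.Lib.J1Cent.Main

/-!
# Elements of order 7, 11 and 19 of `J1` normalised with a non-trivial power

Owner: helper80.
-/

set_option autoImplicit false

namespace Cfsg.Agent.Lib.AllAbelian80

open Cfsg.Agent.Lib.J1Cent

theorem evJ_pow (v : List Bool) (n : ℕ) : evJ (List.replicate n v).flatten = evJ v ^ n := by
  induction n with
  | zero => rfl
  | succ n ih => rw [List.replicate_succ, List.flatten_cons, evJ_append, ih, pow_succ']

/-- In `J1` elements of order 7, 11, 19 are conjugate to a power other than the first and the inverse. -/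
theorem exists_normalised {l : ℕ} (hl : l = 7 ∨ l = 11 ∨ l = 19) :
    ∃ (w b : ↥Cfsg.Spor.J1) (k : ℕ), w ^ l = 1 ∧ w ≠ 1 ∧ b * w = w ^ k * b ∧ k < l ∧ k * k % l ≠ 1 := by
  rcases hl with rfl | rfl | rfl
  · refine ⟨evJ [false], evJ [true, true, false, false, true, false, true, false, false, false, false, true, false, false, true, false, true, false, true], 5, ?_, ?_, ?_, by norm_num, by norm_num⟩
    · rw [← evJ_pow]; exact evJ_eq (w := []) (by decide +kernel)
    · exact evJ_ne (w := []) (by decide +kernel)
    · rw [← evJ_pow, ← evJ_append, ← evJ_append]; exact evJ_eq (by decide +kernel)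
  · refine ⟨evJ [true, true, false], evJ [false, false, true, false, true, true, false, true], 7, ?_, ?_, ?_, by norm_num, by norm_num⟩
    · rw [← evJ_pow]; exact evJ_eq (w := []) (by decide +kernel)
    · exact evJ_ne (w := []) (by decide +kernel)
    · rw [← evJ_pow, ← evJ_append, ← evJ_append]; exact evJ_eq (by decide +kernel)
  · refine ⟨evJ [true, false, false, false], evJ [false, true, false, false, true, false, false, true, true, false, true, false, true, false, false], 12, ?_, ?_, ?_, by norm_num, by norm_num⟩
    · rw [← evJ_pow]; exact evJ_eq (w := []) (by decide +kernel)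
    · exact evJ_ne (w := []) (by decide +kernel)
    · rw [← evJ_pow, ← evJ_append, ← evJ_append]; exact evJ_eq (by decide +kernel)

end Cfsg.Agent.Lib.AllAbelian80
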