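import Cfsg.Agent.Lib.Walter.NoField.Local
import Cfsg.Agent.Lib.Coprime.Generation
import Cfsg.Agent.Lib.OddOrder.FeitThompson
import Mathlib.GroupTheory.Solvable

/-!
# The centraliser of a field element in a group of Janko–Ree type

For `x ∈ F` the centraliser `X = C(x)` contains `N(S)`, its odd normal subgroups lie in `F`, and
`C_X(u) = ⟨u⟩ × C₀ F` with `C₀ = E₀ ⊓ C(x)`.

Owner: helper80.
-/

set_option autoImplicit false
set_option linter.unusedSectionVars false
set_option linter.style.haveILetI false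

universe u

namespace Cfsg.Agent.Lib.AllAbelian80

open Subgroup Cfsg.Agent.Lib.Walter Cfsg.Agent.Lib.Walter.NoField Cfsg.Agent.Lib.Walter66
open scoped commutatorElement

variable {G : Type u} [Group G] [Finite G] {S : Sylow 2 G} {u : G} {E E₀ : Subgroup G}

/-- An odd subgroup of `E₀` invariant under `a`, `b` and `r` is trivial. -/
theorem odd_invariant_eq_bot (C : Ctx S u E E₀) {a b r : G} (T : Tri E E₀ a b r) {A : Subgroup G}
    (hA : A ≤ E₀) (hodd : Odd (Nat.card A))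
    (hn : ∀ g ∈ ({a, b, r} : Set G), ∀ z ∈ A, g * z * g⁻¹ ∈ A) : A = ⊥ := by
  classical
  haveI : Group.IsSolvable A := OddOrder.FeitThompson.isSolvable_of_odd_card hodd
  by_contra hne
  have hex : ∃ i, derivedSeries A i = ⊥ := (Group.isSolvable_def _).1 inferInstance
  have hj0 : Nat.find hex ≠ 0 := by
    intro h
    have h' := Nat.find_spec hex
    rw [h, derivedSeries_zero] at h'
    refine hne (A.eq_bot_iff_forall.2 fun z hz => ?_)
    have hz' : (⟨z, hz⟩ : A) ∈ (⊥ : Subgroup A) := h' ▸ mem_top _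
    exact congrArg Subtype.val (mem_bot.1 hz')
  obtain ⟨i, hi⟩ := Nat.exists_eq_succ_of_ne_zero hj0
  set D := (derivedSeries A i).map A.subtype with hD
  have hD1 : D ≠ ⊥ := fun h =>
    Nat.find_min hex (show i < Nat.find hex by omega)
      ((map_eq_bot_iff_of_injective _ A.subtype_injective).1 h)
  have hDA : D ≤ A := map_subtype_le _
  have hab : ∀ y ∈ D, ∀ z ∈ D, y * z = z * y := by
    rintro _ ⟨y, hy, rfl⟩ _ ⟨z, hz, rfl⟩
    have h := Nat.find_spec hex
    rw [hi, derivedSeries_succ] at h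
    have h' : ⁅y, z⁆ = 1 := mem_bot.1 (h ▸ commutator_mem_commutator hy hz)
    exact congrArg Subtype.val (commutatorElement_eq_one_iff_mul_comm.1 h')
  have hDn : ∀ g ∈ ({a, b, r} : Set G), ∀ z ∈ D, g * z * g⁻¹ ∈ D := by
    intro g hg z hz
    obtain ⟨y, hy, rfl⟩ := hz
    let cg : A →* A := MonoidHom.mk' (fun w => ⟨g * w.1 * g⁻¹, hn g hg w.1 w.2⟩)
      fun v w => Subtype.ext (by simp only [Subgroup.coe_mul]; group)
    exact ⟨cg y, map_derivedSeries_le_derivedSeries cg i (mem_map_of_mem cg hy), rfl⟩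
  have hoddD : Odd (Nat.card D) := hodd.of_dvd_nat (card_dvd_of_le hDA)
  have haI : ∀ z ∈ D, a * z * a⁻¹ ∈ D := hDn a (Or.inl rfl)
  have hbI : ∀ z ∈ D, b * z * b⁻¹ ∈ D := hDn b (Or.inr (Or.inl rfl))
  have hrI : ∀ z ∈ D, r * z * r⁻¹ ∈ D := hDn r (Or.inr (Or.inr rfl))
  have habI : ∀ z ∈ D, a * b * z * (a * b)⁻¹ ∈ D := fun z hz => by
    rw [show a * b * z * (a * b)⁻¹ = a * (b * z * b⁻¹) * a⁻¹ by group]
    exact haI _ (hbI z hz)
  have hrab : r * (a * b) * r⁻¹ = b := C.rot_ab T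
  -- some involution of the four-group has a non-trivial fixed point
  obtain ⟨z, hzD, hz1, hza⟩ : ∃ z ∈ D, z ≠ 1 ∧ a * z * a⁻¹ = z := by
    have hmove : ∀ v w : G, r * v * r⁻¹ = w → (∃ z ∈ D, z ≠ 1 ∧ v * z * v⁻¹ = z) →
        ∃ z ∈ D, z ≠ 1 ∧ w * z * w⁻¹ = z := by
      rintro v w rfl ⟨z, hz, hz1, hzv⟩
      refine ⟨r * z * r⁻¹, hrI z hz, fun h => hz1 (conj_eq_one_iff.1 h), ?_⟩
      calc r * v * r⁻¹ * (r * z * r⁻¹) * (r * v * r⁻¹)⁻¹ = r * (v * z * v⁻¹) * r⁻¹ := by group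
        _ = _ := by rw [hzv]
    by_contra hcon
    have hnb : ¬ ∃ z ∈ D, z ≠ 1 ∧ b * z * b⁻¹ = z := fun h => hcon (hmove b a T.cb h)
    have hnab : ¬ ∃ z ∈ D, z ≠ 1 ∧ a * b * z * (a * b)⁻¹ = z := fun h =>
      hnb (hmove (a * b) b hrab h)
    push Not at hnb hcon
    refine hD1 (D.eq_bot_iff_forall.2 fun z hz => ?_)
    by_contra hz1
    refine hnab ⟨z, hz, hz1, ?_⟩
    have inv : ∀ (v : G), v * v = 1 → (∀ y ∈ D, v * y * v⁻¹ ∈ D) →
        (∀ y ∈ D, y ≠ 1 → v * y * v⁻¹ ≠ y) → ∀ {y}, y ∈ D → v * y * v⁻¹ = y⁻¹ := by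
      intro v hv hvn hvf y hy
      obtain ⟨c, hc, j, hj, hct, hit, rfl⟩ := RankOne.Involution.exists_decomp hoddD hv hvn hy
      have hc1 : c = 1 := by
        by_contra h
        exact hvf c hc h hct
      rw [hc1, one_mul, hit]
    rw [show a * b * z * (a * b)⁻¹ = a * (b * z * b⁻¹) * a⁻¹ by group,
      inv b (sq_of_ord T.hb) hbI hnb hz, inv a (sq_of_ord T.ha) haI hcon (inv_mem hz), inv_inv]
  -- its conjugate commutes with it and hence with the four-group
  set z' := r * (r * z * r⁻¹) * r⁻¹ with hz'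
  have hz'D : z' ∈ D := hrI _ (hrI z hzD)
  have hz'b : b * z' * b⁻¹ = z' := by
    calc b * z' * b⁻¹ = r * (r * a * r⁻¹) * r⁻¹ * z' * (r * (r * a * r⁻¹) * r⁻¹)⁻¹ := by
          rw [T.ca, hrab]
      _ = r * (r * (a * z * a⁻¹) * r⁻¹) * r⁻¹ := by rw [hz']; group
      _ = z' := by rw [hza]
  have ho : ∀ y ∈ D, Odd (orderOf y) := fun y hy => odd_orderOf_mem hoddD hy
  have haz : a * z' = z' * a :=
    (T.oddCent z (hA (hDA hzD)) (ho z hzD) hz1 a T.amem z' (hA (hDA hz'D))
      (mul_inv_eq_iff_eq_mul.1 hza) (hab z' hz'D z hzD)).1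
  have h4 := T.cent₀ z' (hA (hDA hz'D)) haz.symm (mul_inv_eq_iff_eq_mul.1 hz'b).symm
  have hz'1 : z' ≠ 1 := fun h => hz1 (conj_eq_one_iff.1 (conj_eq_one_iff.1 h))
  refine hz'1 (JRBal.eq_one_of_sq_odd hoddD hz'D ?_)
  rcases h4 with h | h | h | h <;> rw [h]
  · exact one_mul 1
  · exact sq_of_ord T.ha
  · exact sq_of_ord T.hb
  · calc a * b * (a * b) = a * (b * a) * b := by group
      _ = (a * a) * (b * b) := by rw [← T.comm]; group
      _ = 1 := by rw [sq_of_ord T.ha, sq_of_ord T.hb, one_mul]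

variable (C : Ctx S u E E₀) {x : G} (hx : x ∈ fieldPart S)
include C hx

theorem normalizer_le : normalizer ((S : Subgroup G) : Set G) ≤ centralizer ({x} : Set G) :=
  fun _ hn => mem_centralizer_singleton_iff.2 (C.comm_normalizer hn hx)

theorem sylow_le : (S : Subgroup G) ≤ centralizer ({x} : Set G) :=
  le_normalizer.trans (normalizer_le C hx)

theorem fieldPart_le_cent : fieldPart S ≤ centralizer ({x} : Set G) := fun _ hf =>
  mem_centralizer_singleton_iff.2 (C.comm_fieldPart hf hx)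

/-- Odd normal subgroups of `C(x)` lie in `F`. -/
theorem le_fieldPart {N : Subgroup G} (hodd : Odd (Nat.card N))
    (hn : centralizer ({x} : Set G) ≤ normalizer (N : Set G)) : N ≤ fieldPart S := by
  obtain ⟨a, b, r, T, ha, hb⟩ := C.exists_tri
  have hSX := sylow_le C hx
  have hSn : (S : Subgroup G) ≤ normalizer (N : Set G) := hSX.trans hn
  have hrN := C.rot_mem_normalizer T ha hb
  have hcj : ∀ {g z : G}, g ∈ centralizer ({x} : Set G) → z ∈ N → g * z * g⁻¹ ∈ N := fun hg hz =>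
    (mem_normalizer_iff.1 (hn hg) _).1 hz
  -- the fixed points of `u`
  have hu : N ⊓ centralizer ({u} : Set G) ≤ fieldPart S := by
    set D := N ⊓ centralizer ({u} : Set G) with hD
    have hDE : D ≤ E := fun z hz => C.conf.odd_mem (mem_centralizer_singleton_iff.1 hz.2)
      (odd_orderOf_mem hodd hz.1)
    have hDn : ∀ g ∈ centralizer ({x} : Set G), g * u = u * g → ∀ z ∈ D, g * z * g⁻¹ ∈ D := by
      intro g hg hgu z hz
      exact mem_inf.2 ⟨hcj hg hz.1, mul_mem (mul_mem (mem_centralizer_singleton_iff.2 hgu) hz.2)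
        (inv_mem (mem_centralizer_singleton_iff.2 hgu))⟩
    have hA : D ⊓ E₀ = ⊥ := by
      refine odd_invariant_eq_bot C T inf_le_right
        (hodd.of_dvd_nat (card_dvd_of_le (inf_le_left.trans inf_le_left))) ?_
      rintro g hg z ⟨hzD, hzE⟩
      have hgE : g ∈ E₀ := by
        rcases hg with rfl | rfl | rfl
        exacts [T.amem, T.bmem, T.rmem]
      have hgX : g ∈ centralizer ({x} : Set G) := by
        rcases hg with rfl | rfl | rfl
        exacts [hSX ha, hSX hb, normalizer_le C hx hrN]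
      exact mem_inf.2 ⟨hDn g hgX (C.mem_cent g (C.conf.le hgE)) z hzD,
        mul_mem (mul_mem hgE hzE) (inv_mem hgE)⟩
    intro z hz
    have hzu := mem_centralizer_singleton_iff.1 hz.2
    have hcomm : ∀ v ∈ E₀, v ∈ (S : Subgroup G) → z * v = v * z := by
      intro v hvE hvS
      have hm : z * v * z⁻¹ * v⁻¹ ∈ D ⊓ E₀ := by
        refine mem_inf.2 ⟨?_, mul_mem (C.conf.conj₀ z (hDE hz) v hvE) (inv_mem hvE)⟩
        rw [show z * v * z⁻¹ * v⁻¹ = z * (v * z⁻¹ * v⁻¹) by group]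
        exact mul_mem hz (hDn v (hSX hvS) (C.mem_cent v (C.conf.le hvE)) _ (inv_mem hz))
      rw [hA, mem_bot, mul_inv_eq_one, mul_inv_eq_iff_eq_mul] at hm
      exact hm
    exact C.mem_fieldPart
      (C.mem_centralizer_of T ha hb hzu (hcomm a T.amem ha) (hcomm b T.bmem hb))
      (odd_orderOf_mem hodd hz.1)
  -- the fixed points of the other involutions of `S`
  have hfix : ∀ s ∈ (S : Subgroup G), s ≠ 1 → N ⊓ centralizer ({s} : Set G) ≤ fieldPart S := by
    intro s hs hs1 z hz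
    obtain ⟨n, hnS, hns⟩ := C.exists_conj_of_mem hs hs1 C.mem C.ne_one
    have h1 : n * z * n⁻¹ ∈ fieldPart S := hu (mem_inf.2
      ⟨hcj (normalizer_le C hx hnS) hz.1, mem_centralizer_singleton_iff.2 (by
        rw [← hns]
        calc n * z * n⁻¹ * (n * s * n⁻¹) = n * (z * s) * n⁻¹ := by group
          _ = n * (s * z) * n⁻¹ := by rw [mem_centralizer_singleton_iff.1 hz.2]
          _ = _ := by group)⟩)
    have h2 := conj_mem_fieldPart (inv_mem hnS) h1
    rwa [show n⁻¹ * (n * z * n⁻¹) * n⁻¹⁻¹ = z by group] at h2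
  have hau : Commute u a := C.comm C.mem ha
  haveI : Fact (Nat.Prime 2) := ⟨Nat.prime_two⟩
  have hcop : (Nat.card (closure ({u, a} : Set G))).Coprime (Nat.card N) := by
    have hle : closure ({u, a} : Set G) ≤ (S : Subgroup G) := (closure_le _).2 (by
      rintro z (rfl | rfl)
      exacts [C.mem, ha])
    obtain ⟨k, hk⟩ := IsPGroup.iff_card.1 (S.isPGroup'.to_le hle)
    rw [hk]
    exact Nat.Coprime.pow_left _ (Nat.coprime_two_left.2 hodd)
  refine (Coprime.le_lineCentralizers (q := 2) hau (hSn C.mem) (hSn ha)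
    (by rw [pow_two, C.sq C.mem]; exact one_mem _) (by rw [pow_two, C.sq ha]; exact one_mem _)
    hcop (Nat.coprime_two_left.2 hodd)).trans
    (sup_le (hfix a ha (ne_one_of_ord T.ha)) (iSup_le fun t => hfix _
      (mul_mem C.mem (pow_mem ha _)) ?_))
  intro h
  have hval := ZMod.val_lt t
  rcases (show t.val = 0 ∨ t.val = 1 by omega) with h' | h' <;> rw [h'] at h
  · rw [pow_zero, mul_one] at h
    exact C.ne_one h
  · rw [pow_one] at h
    have : u = a := by
      calc u = u * (a * a) := by rw [sq_of_ord T.ha, mul_one]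
        _ = a := by rw [← mul_assoc, h, one_mul]
    exact C.conf.not_mem (this ▸ C.conf.le T.amem)

/-- `|C_X(u)| = 2 |C₀| |F|`. -/
theorem card_cent_u :
    Nat.card ↥(centralizer ({x} : Set G) ⊓ centralizer ({u} : Set G)) =
      2 * Nat.card ↥(E₀ ⊓ centralizer ({x} : Set G)) * Nat.card ↥(fieldPart S) := by
  set X := centralizer ({x} : Set G) with hX
  set C₀ := E₀ ⊓ X with hC₀
  have huX : u ∈ X := sylow_le C hx C.mem
  have hmem : ∀ (i : zpowers u) (c : C₀) (f : fieldPart S),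
      (i : G) * c * f ∈ X ⊓ centralizer ({u} : Set G) := fun i c f =>
    mul_mem (mul_mem (mem_inf.2 ⟨zpowers_le.2 huX i.2,
        zpowers_le.2 (mem_centralizer_singleton_iff.2 rfl) i.2⟩)
      (mem_inf.2 ⟨c.2.2, mem_centralizer_singleton_iff.2 (C.mem_cent c (C.conf.le c.2.1))⟩))
      (mem_inf.2 ⟨fieldPart_le_cent C hx f.2, mem_centralizer_singleton_iff.2 (C.comm_u f.2)⟩)
  let φ : (↥(zpowers u) × ↥C₀) × ↥(fieldPart S) → ↥(X ⊓ centralizer ({u} : Set G)) :=
    fun p => ⟨_, hmem p.1.1 p.1.2 p.2⟩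
  have hbij : Function.Bijective φ := by
    constructor
    · rintro ⟨⟨i, c⟩, f⟩ ⟨⟨i', c'⟩, f'⟩ h
      have h' : (i : G) * c * f = i' * c' * f' := congrArg Subtype.val h
      have hm : (i' : G)⁻¹ * i ∈ zpowers u ⊓ E := by
        refine mem_inf.2 ⟨mul_mem (inv_mem i'.2) i.2, ?_⟩
        rw [show (i' : G)⁻¹ * i = c' * f' * ((c : G) * f)⁻¹ by
          calc (i' : G)⁻¹ * i = (i' : G)⁻¹ * (i * c * f) * ((c : G) * f)⁻¹ := by group
            _ = _ := by rw [h']; group]
        exact mul_mem (mul_mem (C.conf.le c'.2.1) (C.fieldPart_le f'.2))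
          (inv_mem (mul_mem (C.conf.le c.2.1) (C.fieldPart_le f.2)))
      rw [C.cent.1.2.2.2.1, mem_bot, inv_mul_eq_one] at hm
      obtain rfl : i' = i := Subtype.ext hm
      have h'' : (c : G) * f = c' * f' := by
        rw [mul_assoc, mul_assoc] at h'
        exact mul_left_cancel h'
      have hm2 : (f' : G) * (f : G)⁻¹ ∈ fieldPart S ⊓ E₀ := by
        refine mem_inf.2 ⟨mul_mem f'.2 (inv_mem f.2), ?_⟩
        rw [show (f' : G) * (f : G)⁻¹ = (c' : G)⁻¹ * c by
          calc (f' : G) * (f : G)⁻¹ = (c' : G)⁻¹ * (c' * f') * (f : G)⁻¹ := by group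
            _ = _ := by rw [← h'']; group]
        exact mul_mem (inv_mem c'.2.1) c.2.1
      rw [C.fieldPart_inf, mem_bot, mul_inv_eq_one] at hm2
      obtain rfl : f' = f := Subtype.ext hm2
      obtain rfl : c = c' := Subtype.ext (mul_right_cancel h'')
      rfl
    · rintro ⟨c, hcX, hcu⟩
      obtain ⟨e, he, hce⟩ := C.conf.decomp c (mem_centralizer_singleton_iff.1 hcu)
      obtain ⟨h, hh, f, hf, rfl⟩ := C.exists_mul he
      have hhf : h * f ∈ X := by
        rcases hce with rfl | rfl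
        · exact hcX
        · exact (X.mul_mem_cancel_left huX).1 hcX
      have hhX : h ∈ X := (X.mul_mem_cancel_right (fieldPart_le_cent C hx hf)).1 hhf
      rcases hce with rfl | rfl
      · exact ⟨((1, ⟨h, hh, hhX⟩), ⟨f, hf⟩), Subtype.ext (by simp [φ])⟩
      · exact ⟨((⟨u, mem_zpowers u⟩, ⟨h, hh, hhX⟩), ⟨f, hf⟩),
          Subtype.ext (by simp [φ, mul_assoc])⟩
  rw [← Nat.card_congr (Equiv.ofBijective φ hbij), Nat.card_prod, Nat.card_prod, Nat.card_zpowers,
    C.ord]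

end Cfsg.Agent.Lib.AllAbelian80
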