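import Cfsg.Agent.Lib.AllAbelian80.Basic
import Cfsg.Agent.Lib.AllAbelian80.Field.Cases
import Cfsg.Agent.Lib.BenderOne.Final
import Cfsg.Agent.Lib.CharSimple
import Cfsg.Agent.Lib.Subnormality.UniqueMaximal
import Cfsg.Agent.Lib.ZStar.Elements

/-!
# The structure of `C(x)`, `x ∈ F`, when all Sylow subgroups are abelian

Modulo its odd core (which lies in `F`) it is `2³:21`, has `L₂(8)` as socle, or is `J₁` (by induction).

Owner: helper80.
-/

set_option autoImplicit false
set_option linter.unusedSectionVars false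
set_option linter.style.haveILetI false

universe u

namespace Cfsg.Agent.Lib.AllAbelian80

open Subgroup Cfsg.Agent.Lib.Walter Cfsg.Agent.Lib.Walter.NoField Cfsg.Agent.Lib.Walter66

variable {G : Type u} [Group G] [Finite G]

/-- A minimal normal non-abelian subgroup is simple when `16` does not divide its order. -/
theorem simple_of_minimal (hK : PropKnown.{u}) (hall : AllAb G) {M : Subgroup G} [M.Normal]
    (hM : M ≠ ⊥) (hmin : ∀ W : Subgroup G, W.Normal → W ≤ M → W ≠ ⊥ → W = M)
    (hna : ¬ IsMulCommutative M) (h16 : ¬ 16 ∣ Nat.card M) :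
    IsSimpleGroup M ∧ IsKnownA ↥M := by
  haveI : Fact (Nat.Prime 2) := ⟨Nat.prime_two⟩
  haveI : Nontrivial M := (Subgroup.nontrivial_iff_ne_bot M).2 hM
  obtain ⟨T, k, -, hTs, hk, ⟨e⟩⟩ :=
    Cfsg.Agent.Lib.CharSimple.exists_mulEquiv_pi_of_charSimple ↥M fun H hH => by
      haveI := hH
      have hn : (H.map M.subtype).Normal := inferInstance
      rcases eq_or_ne (H.map M.subtype) ⊥ with h | h
      · exact Or.inl ((Subgroup.map_eq_bot_iff_of_injective _ M.subtype_injective).1 h)
      · refine Or.inr (Subgroup.map_injective M.subtype_injective ?_)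
        rw [hmin _ hn (Subgroup.map_subtype_le H) h, ← MonoidHom.range_eq_map, Subgroup.range_subtype]
  have hTna : ¬ IsMulCommutative T := fun h => hna ⟨⟨fun a b => e.injective (by
    rw [map_mul, map_mul]; exact funext fun i => h.is_comm.comm _ _)⟩⟩
  haveI := hTs
  have hT := hK ↥T hTs hTna ((hall.subgroup M).subgroup T).abelianSylow
  have h4 : 4 ∣ Nat.card T := by
    obtain ⟨P⟩ : Nonempty (Sylow 2 T) := inferInstance
    have h := ((Walter.knownFacts BenderOne.propSplitFinal).1 ↥T hT).four_le P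
    obtain ⟨j, hj⟩ := IsPGroup.iff_card.1 P.2
    refine dvd_trans ?_ (Subgroup.card_subgroup_dvd_card (P : Subgroup T))
    rw [hj] at h ⊢
    have : 2 ≤ j := by
      by_contra hlt
      have h2 : 2 ^ j ≤ 2 ^ 1 := Nat.pow_le_pow_right two_pos (by omega)
      omega
    exact (show 4 = 2 ^ 2 by norm_num) ▸ pow_dvd_pow 2 this
  have hk1 : k = 1 := by
    by_contra h
    refine h16 ?_
    rw [Nat.card_congr e.toEquiv, Nat.card_pi, Finset.prod_const, Finset.card_univ, Fintype.card_fin]
    exact dvd_trans ((show 16 = 4 ^ 2 by norm_num) ▸ pow_dvd_pow_of_dvd h4 2)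
      (pow_dvd_pow _ (by omega : 2 ≤ k))
  subst hk1
  let eM : M ≃* T := e.trans (MulEquiv.piUnique _)
  haveI : IsSimpleGroup M := eM.isSimpleGroup
  exact ⟨inferInstance, hK ↥M inferInstance hna (hall.subgroup M).abelianSylow⟩

variable {S : Sylow 2 G} {u : G} {E E₀ : Subgroup G}

set_option maxHeartbeats 1000000 in
/-- **The structure of `C(x)`.** -/
theorem struct (hK : PropKnown.{u}) (hall : AllAb G) (C : Ctx S u E E₀) {x : G}
    (hx : x ∈ fieldPart S) (hx1 : x ≠ 1)
    (ih : ∀ (H : Type u) [Group H] [Finite H], Nat.card H < Nat.card G → IsJR H → AllAb H →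
      Cfsg.Spor.IsoJ1 H) :
    (Nat.card ↥(centralizer ({x} : Set G)) ∣ 1512 * Nat.card ↥(fieldPart S) ∧
        Nat.card ↥(E₀ ⊓ centralizer ({x} : Set G)) = 12) ∨
      (Nat.card ↥(E₀ ⊓ centralizer ({x} : Set G)) = 60 ∧
        Nat.card ↥(centralizer ({x} : Set G)) ∣ 175560 * Nat.card ↥(fieldPart S) ∧
        ∃ π : ↥(centralizer ({x} : Set G)) →* ↥Cfsg.Spor.J1, Function.Surjective π ∧
          ∀ z, π z = 1 → (z : G) ∈ fieldPart S) := by
  classical
  haveI : Fact (Nat.Prime 2) := ⟨Nat.prime_two⟩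
  have hX2 := card_cent_u C hx
  have hNX := normalizer_le C hx
  have hFX := fieldPart_le_cent C hx
  have hcN := card_normalizer_sylow C
  have hcNu := card_normalizer_inf C
  have hlt : Nat.card ↥(centralizer ({x} : Set G)) < Nat.card G := by
    refine lt_of_le_of_ne (Subgroup.card_le_card_group _) fun h => cent_ne_top C hx1 ?_
    exact Subgroup.eq_top_of_card_eq _ h
  set X := centralizer ({x} : Set G) with hX
  set F := fieldPart S
  have hSX : (S : Subgroup G) ≤ X := sylow_le C hx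
  have hallX := hall.subgroup X
  set O : Subgroup ↥X := Cfsg.oddCore ↥X with hOdef
  haveI : O.Normal := by rw [hOdef]; infer_instance
  have hOodd : Odd (Nat.card O) := ZStar.Elements.oddCore_odd
  have hOF : O.map X.subtype ≤ F := by
    refine le_fieldPart C hx (by rwa [card_map_of_injective X.subtype_injective]) ?_
    refine le_normalizer_of_conj_mem fun g hg z hz => ?_
    obtain ⟨w, hw, rfl⟩ := hz
    exact ⟨⟨g, hg⟩ * w * ⟨g, hg⟩⁻¹, (inferInstance : O.Normal).conj_mem w hw _, rfl⟩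
  set π := QuotientGroup.mk' O with hπ
  have hπs : Function.Surjective π := QuotientGroup.mk'_surjective O
  have hker : ∀ z : ↥X, π z = 1 → (z : G) ∈ F := fun z hz =>
    hOF ⟨z, (QuotientGroup.eq_one_iff z).1 hz, rfl⟩
  let Sb : Sylow 2 (↥X ⧸ O) := (S.subtype hSX).mapSurjective hπs
  have hSb : ∀ z : ↥X, (z : G) ∈ (S : Subgroup G) → π z ∈ (Sb : Subgroup (↥X ⧸ O)) := fun z hz => by
    rw [Sylow.coe_mapSurjective, Sylow.coe_subtype]
    exact ⟨z, mem_subgroupOf.2 hz, rfl⟩
  -- elements of square one above `Sb`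
  have hlift : ∀ z : ↥X, (z : G) * z = 1 → π z ∈ (Sb : Subgroup (↥X ⧸ O)) →
      (z : G) ∈ (S : Subgroup G) := by
    intro z hz hmem
    rw [Sylow.coe_mapSurjective, Sylow.coe_subtype] at hmem
    obtain ⟨s, hs, hsz⟩ := hmem
    have hs' : (s : G) ∈ (S : Subgroup G) := mem_subgroupOf.1 hs
    have ho : (z : G) * (s : G)⁻¹ ∈ F := by
      rw [show (z : G) * (s : G)⁻¹ = ((z * s⁻¹ : ↥X) : G) by simp]
      exact hker _ (by rw [map_mul, map_inv, hsz, mul_inv_cancel])
    have h1 : (z : G) * (s : G)⁻¹ = 1 := by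
      refine JRBal.eq_one_of_sq_odd (odd_fieldPart S) ho ?_
      have hc : Commute ((z : G) * (s : G)⁻¹) s := comm_fieldPart_sylow ho hs'
      have hz2 : (z : G) * (s : G)⁻¹ * ((z : G) * (s : G)⁻¹) * ((s : G) * s) = (z : G) * z := by
        calc (z : G) * (s : G)⁻¹ * ((z : G) * (s : G)⁻¹) * ((s : G) * s)
            = (z : G) * (s : G)⁻¹ * (((z : G) * (s : G)⁻¹) * s) * s := by group
          _ = (z : G) * (s : G)⁻¹ * ((s : G) * ((z : G) * (s : G)⁻¹)) * s := by rw [hc.eq]
          _ = (z : G) * z := by group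
      rw [C.sq hs', mul_one, hz] at hz2
      exact hz2
    rw [mul_inv_eq_one] at h1
    exact h1 ▸ hs'
  have hS2 : ∀ {z : ↥X}, (z : G) ∈ (S : Subgroup G) → z ≠ 1 → orderOf (π z) = 2 := by
    intro z hz hz1
    refine orderOf_eq_prime ?_ fun h => hz1 ?_
    · rw [pow_two, ← map_mul, show z * z = 1 from Subtype.ext (C.sq hz), map_one]
    · exact Subtype.ext (JRBal.eq_one_of_sq_odd (odd_fieldPart S) (hker z h) (C.sq hz))
  have hScard : Nat.card ↥(Sb : Subgroup (↥X ⧸ O)) = 8 := by
    have h := card_map_mul π ((S : Subgroup G).subgroupOf X)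
    have hk : π.ker ⊓ (S : Subgroup G).subgroupOf X = ⊥ := by
      refine (eq_bot_iff_forall _).2 fun z hz => ?_
      exact Subtype.ext (JRBal.eq_one_of_sq_odd (odd_fieldPart S) (hker z (mem_inf.1 hz).1)
        (C.sq (mem_subgroupOf.1 (mem_inf.1 hz).2)))
    rw [hk, Subgroup.card_bot, mul_one, Nat.card_congr (subgroupOfEquivOfLe hSX).toEquiv,
      C.jr.card_sylow S] at h
    rw [Sylow.coe_mapSurjective, Sylow.coe_subtype]
    exact h
  have h16 : ∀ M : Subgroup (↥X ⧸ O), ¬ 16 ∣ Nat.card M := by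
    intro M h
    have h' : 2 ^ 4 ∣ Nat.card (↥X ⧸ O) := (show 2 ^ 4 = 16 by norm_num) ▸
      h.trans (Subgroup.card_subgroup_dvd_card M)
    have := Sb.card_eq_multiplicity
    rw [hScard] at this
    have h4 := (Nat.Prime.pow_dvd_iff_le_factorization Nat.prime_two Nat.card_pos.ne').1 h'
    have h3 : Nat.factorization (Nat.card (↥X ⧸ O)) 2 = 3 :=
      Nat.pow_right_injective (le_refl 2) (by simpa using this.symm)
    omega
  -- every non-trivial normal subgroup contains `Sb`
  have hSM : ∀ M : Subgroup (↥X ⧸ O), M.Normal → M ≠ ⊥ → (Sb : Subgroup (↥X ⧸ O)) ≤ M := by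
    intro M hM hM1
    haveI := hM
    have hev : 2 ∣ Nat.card M := by
      by_contra h
      exact hM1 (ZStar.Elements.quotient_oddCore (G := ↥X) M hM
        (Nat.odd_iff.2 (Nat.two_dvd_ne_zero.1 h)))
    obtain ⟨m, hm⟩ := exists_prime_orderOf_dvd_card' 2 hev
    have hm' : orderOf (m : ↥X ⧸ O) = 2 := by rw [Subgroup.orderOf_coe, hm]
    obtain ⟨P, hP⟩ := (IsPGroup.of_card (G := zpowers (m : ↥X ⧸ O)) (n := 1)
      (by rw [Nat.card_zpowers, hm', pow_one])).exists_le_sylow
    obtain ⟨g, hg⟩ := MulAction.exists_smul_eq (↥X ⧸ O) P Sb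
    have hmS : g * (m : ↥X ⧸ O) * g⁻¹ ∈ (Sb : Subgroup (↥X ⧸ O)) := by
      rw [← hg, Sylow.coe_subgroup_smul]
      exact Subgroup.smul_mem_pointwise_smul (a := MulAut.conj g) (m : ↥X ⧸ O) _
        (hP (mem_zpowers _))
    rw [Sylow.coe_mapSurjective, Sylow.coe_subtype] at hmS
    obtain ⟨s, hs, hsm⟩ := hmS
    have hsM : π s ∈ M := hsm ▸ hM.conj_mem m m.2 g
    have hs1 : (s : G) ≠ 1 := fun h => by
      have : s = 1 := Subtype.ext h
      rw [this, map_one] at hsm
      have hm1 := conj_eq_one_iff.1 hsm.symm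
      rw [hm1, orderOf_one] at hm'
      omega
    intro y hy
    rw [Sylow.coe_mapSurjective, Sylow.coe_subtype] at hy
    obtain ⟨z, hz, rfl⟩ := hy
    rcases eq_or_ne (z : G) 1 with hz1 | hz1
    · rw [show z = 1 from Subtype.ext hz1, map_one]
      exact one_mem _
    · obtain ⟨n, hn, hne⟩ := C.exists_conj_of_mem (mem_subgroupOf.1 hs) hs1 (mem_subgroupOf.1 hz) hz1
      have he : z = ⟨n, hNX hn⟩ * s * ⟨n, hNX hn⟩⁻¹ := Subtype.ext hne.symm
      rw [he, map_mul, map_mul, map_inv]
      exact hM.conj_mem _ hsM _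
  -- the involution `u`
  set U : ↥X := ⟨u, hSX C.mem⟩ with hU
  have hU1 : U ≠ 1 := fun h => C.ne_one (congrArg Subtype.val h)
  have hUu : orderOf U = 2 := by rw [← Subgroup.orderOf_coe]; exact C.ord
  have hUS := hSb U C.mem
  have hUb : orderOf (π U) = 2 := hS2 (z := U) C.mem hU1
  -- `C_X(u)` and `C_Q(ū)`
  have hCU : Nat.card ↥(centralizer ({U} : Set ↥X)) = Nat.card ↥(X ⊓ centralizer ({u} : Set G)) := by
    rw [← Nat.card_congr (subgroupOfEquivOfLe (inf_le_left :
      X ⊓ centralizer ({u} : Set G) ≤ X)).toEquiv]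
    congr 3
    ext z
    exact ⟨fun h => ⟨z.2, mem_centralizer_singleton_iff.2
        (congrArg Subtype.val (mem_centralizer_singleton_iff.1 h))⟩,
      fun h => mem_centralizer_singleton_iff.2 (Subtype.ext (mem_centralizer_singleton_iff.1 h.2))⟩
  have hCQ : Nat.card ↥(centralizer ({π U} : Set (↥X ⧸ O))) * Nat.card O =
      Nat.card ↥(centralizer ({U} : Set ↥X)) := by
    have h := card_map_mul π (centralizer ({U} : Set ↥X))
    have hk : π.ker ⊓ centralizer ({U} : Set ↥X) = O := by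
      rw [hπ, QuotientGroup.ker_mk']
      refine inf_eq_left.2 fun z hz => mem_centralizer_singleton_iff.2 (Subtype.ext ?_)
      exact comm_fieldPart_sylow (hOF ⟨z, hz, rfl⟩) C.mem
    rw [hk, SolvCentAb12.map_centralizer_invol O hOodd hUu] at h
    exact h
  have hXQ : Nat.card (↥X ⧸ O) * Nat.card O = Nat.card ↥X := O.index_mul_card
  -- if `C_X(u)` normalises `S`
  have hnorm : ∀ c : ↥X, (∀ y ∈ (Sb : Subgroup (↥X ⧸ O)), π c * y * (π c)⁻¹ ∈ (Sb : Subgroup _)) →
      (c : G) ∈ normalizer ((S : Subgroup G) : Set G) := by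
    intro c hc
    refine PSLTwo.Sylow.mem_normalizer_of_conj_mem fun z hz => ?_
    have h := hc _ (hSb ⟨z, hSX hz⟩ hz)
    rw [← map_inv, ← map_mul, ← map_mul] at h
    refine hlift (c * ⟨z, hSX hz⟩ * c⁻¹) ?_ h
    show (c : G) * z * (c : G)⁻¹ * ((c : G) * z * (c : G)⁻¹) = 1
    calc (c : G) * z * (c : G)⁻¹ * ((c : G) * z * (c : G)⁻¹) = (c : G) * (z * z) * (c : G)⁻¹ := by
          group
      _ = 1 := by rw [C.sq hz, mul_one, mul_inv_cancel]
  have hsmall : X ⊓ centralizer ({u} : Set G) ≤ normalizer ((S : Subgroup G) : Set G) →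
      Nat.card ↥(X ⊓ centralizer ({u} : Set G)) = 24 * Nat.card F ∧
      Nat.card ↥(E₀ ⊓ X) = 12 := by
    intro hle
    have he : X ⊓ centralizer ({u} : Set G) =
        normalizer ((S : Subgroup G) : Set G) ⊓ centralizer ({u} : Set G) :=
      le_antisymm (le_inf hle inf_le_right) (inf_le_inf_right _ hNX)
    have h1 : Nat.card ↥(X ⊓ centralizer ({u} : Set G)) = 24 * Nat.card F := by rw [he, hcNu]
    refine ⟨h1, ?_⟩
    rw [h1] at hX2
    have hpos : 0 < Nat.card F := Nat.card_pos
    nlinarith [hX2, hpos]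
  by_cases hSn : (Sb : Subgroup (↥X ⧸ O)).Normal
  · -- `S` is normal in `X`
    have hXN : X ≤ normalizer ((S : Subgroup G) : Set G) := fun c hc =>
      hnorm ⟨c, hc⟩ fun y hy => hSn.conj_mem y hy _
    refine Or.inl ⟨?_, (hsmall (inf_le_left.trans hXN)).2⟩
    rw [le_antisymm hXN hNX, hcN]
    exact Nat.mul_dvd_mul_right (by norm_num) _
  haveI : Nontrivial (↥X ⧸ O) := ⟨π U, 1, fun h => by rw [h, orderOf_one] at hUb; omega⟩
  obtain ⟨M, hMn, hM1, hMmin⟩ :=
    Cfsg.Agent.Lib.Subnormality.UniqueMaximal.exists_minimal_normal (G := ↥X ⧸ O)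
  haveI := hMn
  have hSbM : (Sb : Subgroup (↥X ⧸ O)) ≤ M := hSM M hMn hM1
  have hallQ : AllAb (↥X ⧸ O) := hallX.quotient O
  have hMna : ¬ IsMulCommutative M := by
    intro hc
    refine hSn ⟨fun y hy g => ?_⟩
    have hyM : g * y * g⁻¹ ∈ M := hMn.conj_mem y (hSbM hy) g
    have hle : zpowers (g * y * g⁻¹) ≤ normalizer ((Sb : Subgroup (↥X ⧸ O)) : Set (↥X ⧸ O)) := by
      refine zpowers_le.2 (centralizer_le_normalizer _ (mem_centralizer_iff.2 fun z hz => ?_))
      exact congrArg Subtype.val (hc.is_comm.comm ⟨z, hSbM hz⟩ ⟨_, hyM⟩)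
    have hp : IsPGroup 2 ↥(zpowers (g * y * g⁻¹)) :=
      (Sb.2.map (MulAut.conj g).toMonoidHom).to_le (zpowers_le.2 (mem_map_of_mem _ hy))
    have h2 := hp.to_sup_of_normal_right' Sb.2 hle
    rw [← Sb.3 h2 le_sup_right]
    exact mem_sup_left (mem_zpowers _)
  obtain ⟨hMs, hMk⟩ := simple_of_minimal hK hallQ hM1 hMmin hMna (h16 M)
  haveI := hMs
  set Um : M := ⟨π U, hSbM hUS⟩ with hUm
  have hUmo : orderOf Um = 2 := by rw [← Subgroup.orderOf_coe]; exact hUb
  rcases hMk with hEv | hOd | hJR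
  · -- socle `L₂(8)`
    obtain ⟨hM504, hfacts⟩ := even_type_facts hEv (h16 M)
    obtain ⟨-, hcm⟩ := hfacts Um Um hUmo hUmo
    have hcent : centralizer ({Um} : Set M) = ((Sb.subtype hSbM : Sylow 2 M) : Subgroup M) :=
      hcm _ (by rw [Sylow.coe_subtype]; exact mem_subgroupOf.2 hUS)
    have hle : X ⊓ centralizer ({u} : Set G) ≤ normalizer ((S : Subgroup G) : Set G) := by
      rintro c ⟨hcX, hcu⟩
      refine hnorm ⟨c, hcX⟩ fun y hy => ?_
      have hym : π ⟨c, hcX⟩ * y * (π ⟨c, hcX⟩)⁻¹ ∈ M := hMn.conj_mem y (hSbM hy) _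
      have hcU : Commute (π ⟨c, hcX⟩) (π U) := by
        show π ⟨c, hcX⟩ * π U = π U * π ⟨c, hcX⟩
        rw [← map_mul, ← map_mul]
        exact congrArg π (Subtype.ext (mem_centralizer_singleton_iff.1 hcu))
      have hyU : Commute y (π U) := by
        haveI := hallQ 2 Nat.prime_two Sb
        exact setLike_mul_comm (s := (Sb : Subgroup (↥X ⧸ O))) hy hUS
      have hmem : (⟨_, hym⟩ : M) ∈ centralizer ({Um} : Set M) :=
        mem_centralizer_singleton_iff.2 (Subtype.ext
          (((hcU.mul_left hyU).mul_left hcU.inv_left).eq))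
      rw [hcent, Sylow.coe_subtype] at hmem
      exact mem_subgroupOf.1 hmem
    obtain ⟨hcard, h12⟩ := hsmall hle
    refine Or.inl ⟨?_, h12⟩
    -- the index of `C(ū)`
    set D := centralizer ({π U} : Set (↥X ⧸ O))
    have hsup : M ⊔ D = ⊤ := by
      refine (Subgroup.eq_top_iff' _).2 fun g => ?_
      have hgM : g * π U * g⁻¹ ∈ M := hMn.conj_mem _ (hSbM hUS) g
      have hgo : orderOf (⟨_, hgM⟩ : M) = 2 := by
        rw [← Subgroup.orderOf_coe]
        show orderOf (g * π U * g⁻¹) = 2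
        rw [Involutions.Basic.orderOf_conj_eq, hUb]
      obtain ⟨m, hm⟩ := isConj_iff.1 (hfacts Um _ hUmo hgo).1
      have hm' : (m : ↥X ⧸ O) * π U * (m : ↥X ⧸ O)⁻¹ = g * π U * g⁻¹ := congrArg Subtype.val hm
      have : (m : ↥X ⧸ O)⁻¹ * g ∈ D := mem_centralizer_singleton_iff.2 (by
        calc (m : ↥X ⧸ O)⁻¹ * g * π U = (m : ↥X ⧸ O)⁻¹ * (g * π U * g⁻¹) * g := by group
          _ = (m : ↥X ⧸ O)⁻¹ * ((m : ↥X ⧸ O) * π U * (m : ↥X ⧸ O)⁻¹) * g := by rw [hm']
          _ = _ := by group)
      rw [show g = (m : ↥X ⧸ O) * ((m : ↥X ⧸ O)⁻¹ * g) by group]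
      exact mul_mem_sup m.2 this
    have hidx : D.index * 8 = 504 := by
      have h1 : D.index = D.relIndex M := by
        have hDM : M.relIndex (M ⊔ D) = M.relIndex D := relIndex_sup_left _ _
        rw [hsup, relIndex_top_right] at hDM
        have h2 := D.index_mul_card
        have h3 := M.index_mul_card
        have h4 := card_mul_relIndex' (inf_le_right : M ⊓ D ≤ D)
        have h5 := card_mul_relIndex' (inf_le_left : M ⊓ D ≤ M)
        rw [inf_relIndex_right] at h4
        rw [inf_relIndex_left] at h5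
        rw [← hDM] at h4
        refine Nat.eq_of_mul_eq_mul_left (Nat.card_pos (α := ↥(M ⊓ D))) ?_
        refine Nat.eq_of_mul_eq_mul_left (Nat.pos_of_ne_zero (M.index_ne_zero_of_finite)) ?_
        calc M.index * (Nat.card ↥(M ⊓ D) * D.index) = D.index * (Nat.card ↥(M ⊓ D) * M.index) := by
              ring
          _ = M.index * Nat.card M := by rw [h4, h2, h3]
          _ = _ := by rw [h5]
      have h8 : Nat.card ↥(M ⊓ D) = 8 := by
        have : M ⊓ D = (Sb : Subgroup (↥X ⧸ O)) := by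
          refine le_antisymm (fun y hy => ?_) (le_inf hSbM fun y hy => ?_)
          · have hmem : (⟨y, hy.1⟩ : M) ∈ centralizer ({Um} : Set M) :=
              mem_centralizer_singleton_iff.2 (Subtype.ext (mem_centralizer_singleton_iff.1 hy.2))
            rw [hcent, Sylow.coe_subtype] at hmem
            exact mem_subgroupOf.1 hmem
          · haveI := hallQ 2 Nat.prime_two Sb
            exact mem_centralizer_singleton_iff.2
              (setLike_mul_comm (s := (Sb : Subgroup (↥X ⧸ O))) hy hUS)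
        rw [this, hScard]
      have h5 := card_mul_relIndex' (inf_le_left : M ⊓ D ≤ M)
      rw [inf_relIndex_left, h8, hM504, ← h1] at h5
      omega
    have hi : D.index = 63 := by omega
    have hQ := D.index_mul_card
    rw [hi] at hQ
    rw [← hXQ, ← hQ, mul_assoc, hCQ, hCU, hcard]
    exact Dvd.intro 1 (by ring)
  · -- the odd type has a Sylow subgroup of order four
    exfalso
    obtain ⟨Ff, _, _, h1, h2, ⟨e⟩⟩ := hOd
    have := (Known.odd_facts h1 h2 e).2.four (Sb.subtype hSbM)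
    rw [Sylow.coe_subtype, Nat.card_congr (subgroupOfEquivOfLe hSbM).toEquiv, hScard] at this
    omega
  · -- `J₁`
    have hMlt : Nat.card M < Nat.card G := by
      refine lt_of_le_of_lt ((Subgroup.card_le_card_group M).trans ?_) hlt
      rw [← hXQ]
      exact Nat.le_mul_of_pos_right _ Nat.card_pos
    obtain ⟨e⟩ := ih ↥M hMlt hJR (hallQ.subgroup M)
    have hcent : centralizer (M : Set (↥X ⧸ O)) = ⊥ := by
      by_contra hne
      have hle := hSM _ Subgroup.normal_centralizer hne
      have hc : Um ∈ Subgroup.center M := Subgroup.mem_center_iff.2 fun m =>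
        Subtype.ext (mem_centralizer_iff.1 (hle hUS) m m.2)
      rcases (inferInstance : (Subgroup.center M).Normal).eq_bot_or_eq_top with h | h
      · rw [h, mem_bot] at hc
        rw [hc, orderOf_one] at hUmo
        omega
      · exact hMna ⟨⟨fun a b => Subgroup.mem_center_iff.1 (h ▸ mem_top b) a⟩⟩
    have htop := eq_top_of_J1 e hcent
    subst htop
    have h120 : Nat.card ↥(centralizer ({Um} : Set ↥(⊤ : Subgroup (↥X ⧸ O)))) = 120 :=
      card_centralizer_J1 hJR e hUmo
    let t : ↥(⊤ : Subgroup (↥X ⧸ O)) ≃* ↥X ⧸ O := Subgroup.topEquiv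
    have h120' : Nat.card ↥(centralizer ({π U} : Set (↥X ⧸ O))) = 120 := by
      rw [← h120]
      refine (Nat.card_congr ?_).symm
      exact
        { toFun := fun z => ⟨(z.1 : ↥X ⧸ O), mem_centralizer_singleton_iff.2
            (congrArg Subtype.val (mem_centralizer_singleton_iff.1 z.2))⟩
          invFun := fun z => ⟨⟨z.1, mem_top _⟩, mem_centralizer_singleton_iff.2
            (Subtype.ext (mem_centralizer_singleton_iff.1 z.2))⟩
          left_inv := fun z => rfl
          right_inv := fun z => rfl }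
    -- `F ≤ O`
    have hFO : Nat.card F ∣ Nat.card O := by
      obtain ⟨E', E₀', hE'⟩ := hJR.centralizer Um hUmo
      have CM : Ctx (Sb.subtype hSbM) Um E' E₀' :=
        ⟨hJR, hUmo, by rw [Sylow.coe_subtype]; exact mem_subgroupOf.2 hUS, hE'⟩
      have hbot := fieldPart_eq_bot_of_card CM h120
      have hle : F ≤ O.map X.subtype := by
        intro f hf
        refine ⟨⟨f, hFX hf⟩, (QuotientGroup.eq_one_iff _).1 ?_, rfl⟩
        have hm : (⟨π ⟨f, hFX hf⟩, mem_top _⟩ : ↥(⊤ : Subgroup (↥X ⧸ O))) ∈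
            fieldPart (Sb.subtype hSbM) := by
          refine CM.mem_fieldPart (mem_centralizer_iff.2 fun y hy => Subtype.ext ?_) ?_
          · rw [SetLike.mem_coe, Sylow.coe_subtype, mem_subgroupOf, Sylow.coe_mapSurjective,
              Sylow.coe_subtype] at hy
            obtain ⟨z, hz, hzy⟩ := hy
            show (y : ↥X ⧸ O) * π ⟨f, hFX hf⟩ = π ⟨f, hFX hf⟩ * y
            rw [← hzy, ← map_mul, ← map_mul]
            exact congrArg π (Subtype.ext (comm_fieldPart_sylow hf (mem_subgroupOf.1 hz)).symm)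
          · rw [← Subgroup.orderOf_coe]
            refine Odd.of_dvd_nat ?_ (orderOf_map_dvd π _)
            rw [← Subgroup.orderOf_coe]
            exact odd_orderOf_mem (odd_fieldPart S) hf
        rw [hbot, mem_bot] at hm
        exact congrArg Subtype.val hm
      exact (card_dvd_of_le hle).trans (card_map_of_injective X.subtype_injective).dvd
    have hOF' : Nat.card O ∣ Nat.card F :=
      (card_map_of_injective X.subtype_injective : Nat.card (O.map X.subtype) = Nat.card O).symm.dvd.trans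
        (card_dvd_of_le hOF)
    have hOeq : Nat.card O = Nat.card F := Nat.dvd_antisymm hOF' hFO
    have hQcard : Nat.card (↥X ⧸ O) = 175560 := by
      rw [← Nat.card_congr t.toEquiv, Nat.card_congr e.toEquiv, SporMatrix.J1.card_J1]
    refine Or.inr ⟨?_, by rw [← hXQ, hQcard, hOeq], ((t.symm.trans e).toMonoidHom.comp π),
      (t.symm.trans e).surjective.comp hπs, fun z hz => hker z ?_⟩
    · rw [← hCU, ← hCQ, h120', hOeq] at hX2
      have hpos : 0 < Nat.card F := Nat.card_pos
      nlinarith [hX2, hpos]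
    · rw [MonoidHom.comp_apply] at hz
      refine (t.symm.trans e).injective ?_
      rw [map_one]
      exact hz

end Cfsg.Agent.Lib.AllAbelian80
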