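import Cfsg.Agent.Lib.AllAbelian80.Field.Endgame
import Cfsg.Agent.Lib.AllAbelian80.Field.J1Tori
import Cfsg.Agent.Lib.AllAbelian80.Field.Struct
import Mathlib.NumberTheory.Basic

/-!
# All Sylow subgroups abelian: no field automorphisms in the centraliser of an involution

Owner: helper80.
-/

set_option autoImplicit false
set_option linter.unusedSectionVars false
set_option linter.style.haveILetI false

universe u

namespace Cfsg.Agent.Lib.AllAbelian80

open Subgroup Cfsg.Agent.Lib.Walter Cfsg.Agent.Lib.Walter.NoField Cfsg.Agent.Lib.Walter66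

/-- For an `l`-th power `q = a ^ l` a factor `l` of `q (q - 1) (q + 1)` comes with a second one. -/
theorem sq_dvd_of_pow_eq {l a : ℕ} (hl : l.Prime) (hlodd : Odd l) (ha : 1 ≤ a)
    (h : l ∣ a ^ l * (a ^ l - 1) * (a ^ l + 1)) : l ^ 2 ∣ a ^ l * (a ^ l - 1) * (a ^ l + 1) := by
  haveI := Fact.mk hl
  have hq : 1 ≤ a ^ l := Nat.one_le_pow _ _ ha
  rw [← Int.natCast_dvd_natCast] at h ⊢
  push_cast [Nat.cast_sub hq] at h ⊢
  have hfl : (l : ℤ) ∣ (a : ℤ) ^ l - a := by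
    rw [← ZMod.intCast_zmod_eq_zero_iff_dvd]
    push_cast
    rw [ZMod.pow_card, sub_self]
  have hp : Prime (l : ℤ) := Nat.prime_iff_prime_int.1 hl
  have key : ∀ e : ℤ, e ^ l = e → (l : ℤ) ∣ (a : ℤ) ^ l - e →
      (l : ℤ) ^ 2 ∣ (a : ℤ) ^ l - e := by
    intro e he hd
    have h1 : (l : ℤ) ∣ (a : ℤ) - e := by
      have h2 := dvd_sub hd hfl
      rwa [show (a : ℤ) ^ l - e - ((a : ℤ) ^ l - a) = a - e by ring] at h2
    have h3 := dvd_sub_pow_of_dvd_sub h1 1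
    rw [pow_one, he] at h3
    simpa [pow_succ] using h3
  rcases hp.dvd_or_dvd h with h | h
  · rcases hp.dvd_or_dvd h with h | h
    · exact Dvd.dvd.mul_right (Dvd.dvd.mul_right (by
        simpa using key 0 (zero_pow hl.ne_zero) (by simpa using h)) _) _
    · exact Dvd.dvd.mul_right (Dvd.dvd.mul_left (key 1 (one_pow l) h) _) _
  · refine Dvd.dvd.mul_left ?_ _
    have := key (-1) hlodd.neg_one_pow (by simpa using h)
    simpa using this

variable {G : Type u} [Group G] [Finite G] {S : Sylow 2 G} {u : G} {E E₀ : Subgroup G}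

/-- `l` does not divide `|C₀|`. -/
theorem not_dvd_cent (hall : AllAb G) (C : Ctx S u E E₀) {l : ℕ} [hl : Fact l.Prime] (hl2 : l ≠ 2)
    {x : G} (hx : x ∈ fieldPart S) (hox : orderOf x = l)
    (hsq : ¬ l ^ 2 ∣ Nat.card ↥(E₀ ⊓ centralizer ({x} : Set G))) :
    ¬ l ∣ Nat.card ↥(E₀ ⊓ centralizer ({x} : Set G)) := by
  intro hdvd
  have h0 : l ∣ Nat.card ↥E₀ := hdvd.trans (card_dvd_of_le inf_le_left)
  -- `l²` divides `|E₀|`
  obtain ⟨K, _, _, hq, h5, ⟨φ⟩⟩ := C.cent.2.2.2.2.1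
  obtain ⟨p, hp⟩ := CharP.exists K
  haveI := hp
  obtain ⟨k, hpp, hk⟩ := FiniteField.card K p
  haveI := Fact.mk hpp
  have hodd : Odd (Fintype.card K) := Nat.odd_iff.2 (by omega)
  obtain ⟨g, hg⟩ : l ∣ (k : ℕ) :=
    (hox ▸ Subgroup.orderOf_dvd_natCard _ hx).trans (C.card_fieldPart_dvd K hodd φ hk)
  have hqa : Fintype.card K = (p ^ g) ^ l := by rw [hk, hg, ← pow_mul, mul_comm]
  have hcard : Fintype.card K * (Fintype.card K - 1) * (Fintype.card K + 1) = 2 * Nat.card ↥E₀ := by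
    rw [← Linear.gcd_mul_card_PSL_two, ← Nat.card_congr φ.toEquiv,
      Nat.gcd_eq_left (show 2 ∣ Fintype.card K - 1 by omega)]
  have h2 : l ^ 2 ∣ Nat.card ↥E₀ := by
    have h' := sq_dvd_of_pow_eq hl.out (hl.out.odd_of_ne_two hl2) (Nat.one_le_pow g p hpp.pos)
      (by rw [← hqa, hcard]; exact h0.mul_left 2)
    rw [← hqa, hcard] at h'
    exact (Nat.Coprime.pow_left 2 ((Nat.coprime_primes hl.out Nat.prime_two).2 hl2)).dvd_of_dvd_mul_left h'
  -- a Sylow subgroup of `E₀ ⊔ ⟨x⟩` through `x` meets `E₀` in a Sylow subgroup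
  have hxE : x ∈ E := C.fieldPart_le hx
  set H := E₀ ⊔ zpowers x with hH
  have hHE : H ≤ E := sup_le C.conf.le (zpowers_le.2 hxE)
  haveI hn : (E₀.subgroupOf H).Normal := ⟨fun a ha c => mem_subgroupOf.2 (by
    simpa using C.conf.conj₀ c (hHE c.2) a (mem_subgroupOf.1 ha))⟩
  have hxl : IsPGroup l ↥(zpowers (⟨x, mem_sup_right (mem_zpowers x)⟩ : ↥H)) :=
    IsPGroup.of_card (n := 1) (by rw [Nat.card_zpowers, Subgroup.orderOf_mk, hox, pow_one])
  obtain ⟨P, hP⟩ := hxl.exists_le_sylow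
  set A := E₀.subgroupOf H with hA
  have hrel : (P : Subgroup ↥H).relIndex A ∣ (P : Subgroup ↥H).index := by
    have h1 : A.relIndex (A ⊔ (P : Subgroup ↥H)) = A.relIndex (P : Subgroup ↥H) :=
      relIndex_sup_left _ _
    have e1 := card_mul_relIndex' (le_sup_left : A ≤ A ⊔ (P : Subgroup ↥H))
    have e2 := card_mul_relIndex' (le_sup_right : (P : Subgroup ↥H) ≤ A ⊔ (P : Subgroup ↥H))
    have e3 := card_mul_relIndex' (inf_le_left : A ⊓ (P : Subgroup ↥H) ≤ A)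
    have e4 := card_mul_relIndex' (inf_le_right : A ⊓ (P : Subgroup ↥H) ≤ (P : Subgroup ↥H))
    rw [inf_relIndex_left] at e3
    rw [inf_relIndex_right] at e4
    have he : (P : Subgroup ↥H).relIndex A = (P : Subgroup ↥H).relIndex (A ⊔ (P : Subgroup ↥H)) := by
      refine Nat.eq_of_mul_eq_mul_left (Nat.card_pos (α := (P : Subgroup ↥H))) ?_
      rw [e2, ← e1, h1, ← e3]
      nth_rw 1 [← e4]
      ring
    rw [he]
    exact relIndex_dvd_index_of_le le_sup_right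
  have hcop : Nat.Coprime (l ^ 2) ((P : Subgroup ↥H).relIndex A) :=
    Nat.Coprime.pow_left 2 (hl.out.coprime_iff_not_dvd.2 fun h => P.not_dvd_index (h.trans hrel))
  have h3 : l ^ 2 ∣ Nat.card ↥(A ⊓ (P : Subgroup ↥H)) := by
    refine hcop.dvd_of_dvd_mul_right ?_
    have e3 := card_mul_relIndex' (inf_le_left : A ⊓ (P : Subgroup ↥H) ≤ A)
    rw [inf_relIndex_left] at e3
    rw [e3, hA, Nat.card_congr (subgroupOfEquivOfLe (le_sup_left : E₀ ≤ H)).toEquiv]
    exact h2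
  refine hsq ?_
  rw [← card_map_of_injective H.subtype_injective] at h3
  refine h3.trans (card_dvd_of_le ?_)
  rintro _ ⟨z, hz, rfl⟩
  exact mem_inf.2 ⟨mem_subgroupOf.1 (mem_inf.1 hz).1, mem_centralizer_singleton_iff.2
    (hall.comm (P.2.map H.subtype) (mem_map_of_mem _ (mem_inf.1 hz).2)
      (show x ∈ (P : Subgroup ↥H).map H.subtype from
        ⟨_, hP (mem_zpowers _), rfl⟩))⟩

/-- The Sylow 7-subgroup of `N(S)`. -/
theorem false_seven (hall : AllAb G) (C : Ctx S u E E₀) [Fact (Nat.Prime 7)] {x : G}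
    (hx : x ∈ fieldPart S) (hox : orderOf x = 7)
    (hX : Nat.card ↥(centralizer ({x} : Set G)) ∣ 1512 * Nat.card ↥(fieldPart S)) : False := by
  obtain ⟨a, b, r, T, ha, hb⟩ := C.exists_tri
  set NS := normalizer ((S : Subgroup G) : Set G) with hNS
  set CS := centralizer ((S : Subgroup G) : Set G) with hCS
  have hrN : r ∈ NS := C.rot_mem_normalizer T ha hb
  have hCN : CS ≤ NS := centralizer_le_normalizer _
  have hFN : fieldPart S ≤ NS := (fieldPart_le_centralizer S).trans hCN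
  have hxl : IsPGroup 7 ↥(zpowers (⟨x, hFN hx⟩ : ↥NS)) :=
    IsPGroup.of_card (n := 1) (by rw [Nat.card_zpowers, Subgroup.orderOf_mk, hox, pow_one])
  obtain ⟨P, hP⟩ := hxl.exists_le_sylow
  set R₀ := (P : Subgroup ↥NS).map NS.subtype with hR₀
  have hR₀p : IsPGroup 7 ↥R₀ := P.2.map _
  have hxR₀ : x ∈ R₀ := ⟨_, hP (mem_zpowers _), rfl⟩
  have hR₀N : R₀ ≤ NS := map_subtype_le _
  have hcN := card_normalizer_sylow C
  obtain ⟨R, hR⟩ := exists_sylow_eq hall hR₀p hxR₀ (c := 9) (n := Nat.card ↥NS) (by norm_num)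
    (hX.trans (dvd_of_eq (by rw [hcN]; ring)))
    ⟨(P : Subgroup ↥NS).index, P.not_dvd_index, by
      rw [hR₀, card_map_of_injective NS.subtype_injective, index_mul_card]⟩
  have hxR : x ∈ (R : Subgroup G) := hR.symm ▸ hxR₀
  -- `[R : R ⊓ F]` is at most seven
  have hrel : (fieldPart S).relIndex (R : Subgroup G) ∣ 7 := by
    rw [hR]
    haveI : ((fieldPart S).subgroupOf NS).Normal := ⟨fun f hf g => mem_subgroupOf.2 (by
      simpa using conj_mem_fieldPart g.2 (mem_subgroupOf.1 hf))⟩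
    have h1 : (fieldPart S).relIndex R₀ ∣ 168 := by
      have h2 := relIndex_dvd_index_of_normal ((fieldPart S).subgroupOf NS) (R₀.subgroupOf NS)
      rw [relIndex_subgroupOf hR₀N] at h2
      refine h2.trans (dvd_of_eq ?_)
      refine Nat.eq_of_mul_eq_mul_left (Nat.card_pos (α := ↥(fieldPart S))) ?_
      rw [show ((fieldPart S).subgroupOf NS).index = (fieldPart S).relIndex NS from rfl,
        card_mul_relIndex' hFN, hcN, mul_comm]
    obtain ⟨e, he⟩ := IsPGroup.iff_card.1 hR₀p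
    obtain ⟨j, -, hj⟩ := (Nat.dvd_prime_pow (by norm_num : Nat.Prime 7)).1
      (show (fieldPart S).relIndex R₀ ∣ 7 ^ e from he ▸ (relIndex_dvd_card _ _))
    rw [hj] at h1 ⊢
    rcases j with _ | _ | j
    · norm_num
    · norm_num
    · exfalso
      have : 7 ^ 2 ∣ 168 := (pow_dvd_pow 7 (by omega : 2 ≤ j + 1 + 1)).trans h1
      norm_num at this
  -- the automiser in `N(S)` modulo `C(S)`
  haveI : (CS.subgroupOf NS).Normal := ⟨fun c hc g => mem_subgroupOf.2 (by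
    have h := conj_mem_centralizer_of_mem_normalizer g.2 (mem_subgroupOf.1 hc)
    simpa [hCS] using h)⟩
  have hrot : ∀ z : G, z * z ^ 2 = z ^ 3 := fun z => (pow_succ' z 2).symm
  let q := QuotientGroup.mk' (CS.subgroupOf NS)
  have hQ : Nat.card (↥NS ⧸ CS.subgroupOf NS) = 21 := C.relIndex_centralizer
  let Pq : Sylow 7 (↥NS ⧸ CS.subgroupOf NS) := P.mapSurjective (QuotientGroup.mk'_surjective _)
  have hPq : Nat.card ↥(Pq : Subgroup (↥NS ⧸ CS.subgroupOf NS)) = 7 := by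
    rw [Pq.card_eq_multiplicity, hQ]
    have h21 : Nat.factorization 21 7 = 1 := by
      rw [show (21 : ℕ) = 3 * 7 by norm_num, Nat.factorization_mul (by norm_num) (by norm_num)]
      simp [Nat.factorization_eq_zero_of_not_dvd (show ¬ 7 ∣ 3 by norm_num),
        (show Nat.Prime 7 by norm_num).factorization_self]
    rw [h21, pow_one]
  have hPn : (Pq : Subgroup (↥NS ⧸ CS.subgroupOf NS)).Normal := by
    have h1 := card_sylow_modEq_one 7 (↥NS ⧸ CS.subgroupOf NS)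
    have h2 : Nat.card (Sylow 7 (↥NS ⧸ CS.subgroupOf NS)) ∣ 3 := by
      have h3 := Pq.card_dvd_index
      have h4 := (Pq : Subgroup (↥NS ⧸ CS.subgroupOf NS)).index_mul_card
      rw [hQ, hPq] at h4
      rwa [show (Pq : Subgroup (↥NS ⧸ CS.subgroupOf NS)).index = 3 by omega] at h3
    have h3 : Nat.card (Sylow 7 (↥NS ⧸ CS.subgroupOf NS)) = 1 := by
      rcases (Nat.dvd_prime Nat.prime_three).1 h2 with h | h
      · exact h
      · rw [h] at h1
        exact absurd h1 (by decide)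
    haveI : Subsingleton (Sylow 7 (↥NS ⧸ CS.subgroupOf NS)) := (Nat.card_eq_one_iff_unique.1 h3).1
    exact Sylow.normal_of_subsingleton Pq
  set rq := q ⟨r, hrN⟩ with hrq
  haveI : IsCyclic ↥(Pq : Subgroup (↥NS ⧸ CS.subgroupOf NS)) := isCyclic_of_prime_card hPq
  obtain ⟨g₀, hg₀⟩ := IsCyclic.exists_generator (α := ↥(Pq : Subgroup (↥NS ⧸ CS.subgroupOf NS)))
  obtain ⟨k, hk⟩ := (mem_powers_iff_mem_zpowers).2
    (hg₀ ⟨rq * g₀ * rq⁻¹, hPn.conj_mem _ g₀.2 rq⟩)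
  have hk' : rq * g₀ * rq⁻¹ = (g₀ : ↥NS ⧸ CS.subgroupOf NS) ^ k :=
    (congrArg Subtype.val hk).symm
  have hact : ∀ y ∈ (Pq : Subgroup (↥NS ⧸ CS.subgroupOf NS)), rq * y * rq⁻¹ = y ^ k := by
    intro y hy
    obtain ⟨i, hi⟩ := mem_zpowers_iff.1 (hg₀ ⟨y, hy⟩)
    have hi' : (g₀ : ↥NS ⧸ CS.subgroupOf NS) ^ i = y := congrArg Subtype.val hi
    rw [← hi', ← conj_zpow, hk', ← zpow_natCast ((g₀ : ↥NS ⧸ CS.subgroupOf NS) ^ i) k,
      ← zpow_natCast (g₀ : ↥NS ⧸ CS.subgroupOf NS) k, ← zpow_mul, ← zpow_mul, mul_comm]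
  have hg7 : orderOf (g₀ : ↥NS ⧸ CS.subgroupOf NS) = 7 := by
    rw [Subgroup.orderOf_coe, orderOf_eq_card_of_forall_mem_zpowers hg₀, hPq]
  have hr3 : rq * (rq * rq) = 1 := by
    rw [hrq, ← map_mul, ← map_mul]
    refine (QuotientGroup.eq_one_iff _).2 (mem_subgroupOf.2 (mem_centralizer_iff.2 fun p hp => ?_))
    show p * (r * (r * r)) = r * (r * r) * p
    refine (mul_inv_eq_iff_eq_mul.1 ?_).symm
    calc r * (r * r) * p * (r * (r * r))⁻¹ = r * (r * (r * p * r⁻¹) * r⁻¹) * r⁻¹ := by group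
      _ = p := C.rot_cube T ha hb hp
  have hk3 : (g₀ : ↥NS ⧸ CS.subgroupOf NS) ^ (k * k * k) = g₀ := by
    set g := (g₀ : ↥NS ⧸ CS.subgroupOf NS)
    calc g ^ (k * k * k) = rq * (rq * (rq * g * rq⁻¹) * rq⁻¹) * rq⁻¹ := by
          rw [hk', ← conj_pow, hk', ← pow_mul, ← conj_pow, hk', ← pow_mul, mul_assoc]
      _ = (rq * (rq * rq)) * g * (rq * (rq * rq))⁻¹ := by group
      _ = g := by rw [hr3]; group
  have hk1 : (g₀ : ↥NS ⧸ CS.subgroupOf NS) ^ k ≠ g₀ := by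
    intro h
    rw [h] at hk'
    obtain ⟨⟨y, hy⟩, hyq⟩ := QuotientGroup.mk_surjective (g₀ : ↥NS ⧸ CS.subgroupOf NS)
    have hm : (r * y * r⁻¹) * y⁻¹ ∈ CS := by
      have h1 : q (⟨r, hrN⟩ * ⟨y, hy⟩ * ⟨r, hrN⟩⁻¹ * ⟨y, hy⟩⁻¹) = 1 := by
        simp only [map_mul, map_inv]
        show rq * (QuotientGroup.mk (⟨y, hy⟩ : ↥NS)) * rq⁻¹ * (QuotientGroup.mk (⟨y, hy⟩ : ↥NS))⁻¹ = 1
        rw [hyq, hk', mul_inv_cancel]
      exact mem_subgroupOf.1 ((QuotientGroup.eq_one_iff _).1 h1)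
    -- `r` fixes `y u y⁻¹`
    have hfix : r * (y * u * y⁻¹) * r⁻¹ = y * u * y⁻¹ := by
      have hc := mem_centralizer_iff.1 hm (y * u * y⁻¹) ((mem_normalizer_iff.1 hy u).1 C.mem)
      calc r * (y * u * y⁻¹) * r⁻¹ = r * y * r⁻¹ * y⁻¹ * (y * (r * u * r⁻¹) * y⁻¹) * (r * y * r⁻¹ * y⁻¹)⁻¹ := by
            group
        _ = r * y * r⁻¹ * y⁻¹ * (y * u * y⁻¹) * (r * y * r⁻¹ * y⁻¹)⁻¹ := by
            rw [show r * u * r⁻¹ = u by rw [C.rot_comm_u T, mul_inv_cancel_right]]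
        _ = y * u * y⁻¹ := by rw [← hc, mul_inv_cancel_right]
    have hyu : y * u = u * y := by
      rcases C.rot_fix T ha hb ((mem_normalizer_iff.1 hy u).1 C.mem) hfix with h1 | h1
      · exact absurd (conj_eq_one_iff.1 h1) C.ne_one
      · exact mul_inv_eq_iff_eq_mul.1 h1
    obtain ⟨i, c, hc, hic⟩ := C.exists_rot_mul T ha hb hy hyu
    have h3 : (g₀ : ↥NS ⧸ CS.subgroupOf NS) ^ 3 = 1 := by
      have e : q ⟨y, hy⟩ = (rq ^ i)⁻¹ := by
        have h4 : q (⟨r, hrN⟩ ^ i * ⟨y, hy⟩) = 1 :=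
          (QuotientGroup.eq_one_iff _).2 (mem_subgroupOf.2 (show r ^ i * y ∈ CS from hic.symm ▸ hc))
        rw [map_mul, map_pow] at h4
        exact eq_inv_of_mul_eq_one_right h4
      rw [← hyq]
      show q ⟨y, hy⟩ ^ 3 = 1
      rw [e, inv_pow, ← pow_mul, mul_comm, pow_mul, pow_succ', pow_two, hr3, one_pow, inv_one]
    have h7 := orderOf_dvd_of_pow_eq_one h3
    rw [hg7] at h7
    norm_num at h7
  have hkmod : k * k % 7 ≠ 1 := by
    intro h2
    refine hk1 ?_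
    have h3 : (k * k * k) % 7 = 1 % 7 := by
      rw [← hg7]
      exact pow_eq_pow_iff_modEq.1 (hk3.trans (pow_one _).symm)
    have h4 : k % 7 = 1 := by
      rw [Nat.mul_mod, h2, one_mul, Nat.mod_mod] at h3
      simpa using h3
    rw [← pow_mod_orderOf, hg7, h4, pow_one]
  -- an element of `N(R) ∩ N(S)` acting as `r`
  set M₇ := (Pq : Subgroup (↥NS ⧸ CS.subgroupOf NS)).comap q with hM₇
  haveI := hPn
  haveI : M₇.Normal := hPn.comap q
  have hPM : (P : Subgroup ↥NS) ≤ M₇ := fun z hz => ⟨z, hz, rfl⟩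
  have hfr := Sylow.normalizer_sup_eq_top' P hPM
  obtain ⟨b', hb', m, hm, hbm⟩ := Subgroup.mem_sup_of_normal_right.1
    (show (⟨r, hrN⟩ : ↥NS) ∈ normalizer ((P : Subgroup ↥NS) : Set ↥NS) ⊔ M₇ from hfr ▸ mem_top _)
  have hbq : ∀ y ∈ (Pq : Subgroup (↥NS ⧸ CS.subgroupOf NS)), q b' * y * (q b')⁻¹ = y ^ k := by
    intro y hy
    have hmP : q m ∈ (Pq : Subgroup (↥NS ⧸ CS.subgroupOf NS)) := hm
    haveI : IsMulCommutative ↥(Pq : Subgroup (↥NS ⧸ CS.subgroupOf NS)) :=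
      ⟨⟨fun a b => (IsCyclic.commGroup (α := ↥(Pq : Subgroup (↥NS ⧸ CS.subgroupOf NS)))).mul_comm a b⟩⟩
    have hc : Commute (q m) y := setLike_mul_comm hmP hy
    have e : rq = q b' * q m := by rw [hrq, ← hbm, map_mul]
    rw [← hact y hy, e]
    calc q b' * y * (q b')⁻¹ = q b' * (q m * y * (q m)⁻¹) * (q b')⁻¹ := by
          rw [hc.eq, mul_inv_cancel_right]
      _ = _ := by group
  refine false_of_sylow hall C (by norm_num) hx hox R hxR (Or.inr ⟨hrel, b', ?_,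
    C.comm_normalizer b'.2 hx, k, hkmod, fun y hy => ?_⟩)
  · refine PSLTwo.Sylow.mem_normalizer_of_conj_mem fun z hz => ?_
    rw [hR] at hz ⊢
    obtain ⟨w, hw, rfl⟩ := hz
    exact ⟨_, (mem_normalizer_iff.1 hb' w).1 hw, rfl⟩
  · rw [hR] at hy
    obtain ⟨w, hw, rfl⟩ := hy
    have hz : (b' * w * b'⁻¹ * (w ^ k)⁻¹ : ↥NS) ∈ CS.subgroupOf NS := by
      refine (QuotientGroup.eq_one_iff _).1 ?_
      show q (b' * w * b'⁻¹ * (w ^ k)⁻¹) = 1
      rw [map_mul, map_mul, map_mul, map_inv, map_inv, map_pow, hbq _ ⟨w, hw, rfl⟩, mul_inv_cancel]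
    refine C.mem_fieldPart (mem_subgroupOf.1 hz) ?_
    have hwR : (b' * w * b'⁻¹ * (w ^ k)⁻¹ : ↥NS) ∈ (P : Subgroup ↥NS) :=
      mul_mem ((mem_normalizer_iff.1 hb' w).1 hw) (inv_mem (pow_mem hw k))
    obtain ⟨e, he⟩ := IsPGroup.iff_orderOf.1 P.2 ⟨_, hwR⟩
    rw [Subgroup.orderOf_mk] at he
    have he' : orderOf ((b' * w * b'⁻¹ * (w ^ k)⁻¹ : ↥NS) : G) = 7 ^ e := by
      rw [Subgroup.orderOf_coe, he]
    show Odd (orderOf ((b' : G) * (w : G) * (b' : G)⁻¹ * ((w : G) ^ k)⁻¹))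
    rw [show (b' : G) * (w : G) * (b' : G)⁻¹ * ((w : G) ^ k)⁻¹ =
      ((b' * w * b'⁻¹ * (w ^ k)⁻¹ : ↥NS) : G) by simp, he']
    exact (by decide : Odd 7).pow

/-- The case `C(x) / O ≅ J₁`. -/
theorem false_J1 (hall : AllAb G) (C : Ctx S u E E₀) {l : ℕ} [hl : Fact l.Prime]
    (hl7 : l = 7 ∨ l = 11 ∨ l = 19) {x : G} (hx : x ∈ fieldPart S) (hox : orderOf x = l)
    (π : ↥(centralizer ({x} : Set G)) →* ↥Cfsg.Spor.J1) (hπ : Function.Surjective π)
    (hker : ∀ z, π z = 1 → (z : G) ∈ fieldPart S) : False := by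
  obtain ⟨w, c, k, hwl, hw1, hcw, -, hk⟩ := exists_normalised hl7
  have hJ : Nat.card ↥Cfsg.Spor.J1 = 175560 := Cfsg.Agent.Lib.SporMatrix.J1.card_J1
  haveI : Finite ↥Cfsg.Spor.J1 := Nat.finite_of_card_ne_zero (by omega)
  have how : orderOf w = l := orderOf_eq_prime hwl hw1
  have hxX : x ∈ (centralizer ({x} : Set G)) := mem_centralizer_singleton_iff.2 rfl
  obtain ⟨R₁, hR₁⟩ := (IsPGroup.of_card (G := zpowers x) (n := 1)
    (by rw [Nat.card_zpowers, hox, pow_one])).exists_le_sylow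
  have hR₁X : (R₁ : Subgroup G) ≤ (centralizer ({x} : Set G)) := fun z hz =>
    mem_centralizer_singleton_iff.2 (hall.comm R₁.2 hz (hR₁ (mem_zpowers x)))
  -- move the image of `R₁` into `⟨w⟩`
  have hwc : Nat.card ↥(zpowers w) = l := by rw [Nat.card_zpowers, how]
  have hwS : ∀ Q : Sylow l ↥Cfsg.Spor.J1, zpowers w ≤ (Q : Subgroup _) →
      zpowers w = (Q : Subgroup _) := by
    intro Q hQ
    refine Subgroup.eq_of_le_of_card_ge hQ ?_
    obtain ⟨e, he⟩ := IsPGroup.iff_card.1 Q.2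
    rw [hwc, he]
    have hd : l ^ e ∣ 175560 := by
      rw [← hJ, ← he]
      exact card_subgroup_dvd_card _
    rcases e with _ | _ | e
    · simpa using hl.out.one_le
    · simp
    · exfalso
      have h2 : l ^ 2 ∣ 175560 := (pow_dvd_pow l (by omega)).trans hd
      rcases hl7 with rfl | rfl | rfl <;> norm_num at h2
  obtain ⟨Q, hQ⟩ := ((R₁.2.comap_of_injective (centralizer ({x} : Set G)).subtype Subtype.val_injective).map π).exists_le_sylow
  obtain ⟨Qw, hQw⟩ := (IsPGroup.of_card (G := zpowers w) (n := 1)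
    (by rw [hwc, pow_one])).exists_le_sylow
  obtain ⟨g₁, hg₁⟩ := MulAction.exists_smul_eq ↥Cfsg.Spor.J1 Q Qw
  obtain ⟨g, hg⟩ := hπ g₁
  set R := (g : G) • R₁ with hR
  have hmemR : ∀ {z : G}, z ∈ (R : Subgroup G) ↔ (g : G)⁻¹ * z * g ∈ (R₁ : Subgroup G) := by
    intro z
    rw [hR, Sylow.coe_subgroup_smul]
    constructor
    · rintro ⟨z₁, hz₁, rfl⟩
      show (g : G)⁻¹ * ((g : G) * z₁ * (g : G)⁻¹) * g ∈ _
      rw [show (g : G)⁻¹ * ((g : G) * z₁ * (g : G)⁻¹) * g = z₁ by group]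
      exact hz₁
    · exact fun h => ⟨_, h, by show (g : G) * ((g : G)⁻¹ * z * g) * (g : G)⁻¹ = z; group⟩
  have hxR : x ∈ (R : Subgroup G) := hmemR.2 (by
    rw [mul_assoc, ← mem_centralizer_singleton_iff.1 g.2, inv_mul_cancel_left]
    exact hR₁ (mem_zpowers x))
  have hRX : (R : Subgroup G) ≤ (centralizer ({x} : Set G)) := fun z hz =>
    mem_centralizer_singleton_iff.2 (hall.comm R.2 hz hxR)
  have hπR : ∀ z : ↥(centralizer ({x} : Set G)), (z : G) ∈ (R : Subgroup G) → π z ∈ zpowers w := by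
    intro z hz
    rw [hwS Qw hQw, ← hg₁, Sylow.coe_subgroup_smul]
    refine ⟨π (g⁻¹ * z * g), hQ ⟨g⁻¹ * z * g, ?_, rfl⟩, ?_⟩
    · show ((g⁻¹ * z * g : ↥(centralizer ({x} : Set G))) : G) ∈ (R₁ : Subgroup G)
      simpa using hmemR.1 hz
    · show g₁ * π (g⁻¹ * z * g) * g₁⁻¹ = π z
      rw [map_mul, map_mul, map_inv, hg]
      group
  -- `[R : R ⊓ F]` divides `l`
  have hrel : (fieldPart S).relIndex (R : Subgroup G) ∣ l := by
    have h1 : (π.ker.map (centralizer ({x} : Set G)).subtype).relIndex (R : Subgroup G) ∣ l := by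
      rw [← inf_relIndex_right]
      have he : π.ker.map (centralizer ({x} : Set G)).subtype ⊓ (R : Subgroup G) =
          (π.ker ⊓ (R : Subgroup G).subgroupOf (centralizer ({x} : Set G))).map (centralizer ({x} : Set G)).subtype := by
        refine le_antisymm ?_ ?_
        · rintro _ ⟨⟨z, hz, rfl⟩, hzR⟩
          exact ⟨z, ⟨hz, mem_subgroupOf.2 hzR⟩, rfl⟩
        · rintro _ ⟨z, ⟨hz, hzR⟩, rfl⟩
          exact ⟨⟨z, hz, rfl⟩, mem_subgroupOf.1 hzR⟩
      nth_rw 2 [← map_subgroupOf_eq_of_le hRX]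
      rw [he, relIndex_map_map_of_injective _ _ (centralizer ({x} : Set G)).subtype_injective, inf_relIndex_right, relIndex_ker]
      refine (card_dvd_of_le ?_).trans hwc.dvd
      rintro _ ⟨z, hz, rfl⟩
      exact hπR z (mem_subgroupOf.1 hz)
    refine (relIndex_dvd_of_le_left _ ?_).trans h1
    rintro _ ⟨z, hz, rfl⟩
    exact hker z hz
  -- an element of `N(R)` above `c`
  obtain ⟨c₁, hc₁⟩ := hπ c
  set W := (zpowers w).comap π with hW
  have hcW : ∀ z ∈ W, c₁ * z * c₁⁻¹ ∈ W := by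
    intro z hz
    obtain ⟨i, hi⟩ := mem_zpowers_iff.1 hz
    show π (c₁ * z * c₁⁻¹) ∈ zpowers w
    rw [map_mul, map_mul, map_inv, hc₁, ← hi, ← conj_zpow, hcw, mul_inv_cancel_right, ← zpow_natCast,
      ← zpow_mul]
    exact zpow_mem (mem_zpowers w) _
  set RX := (R : Subgroup G).subgroupOf (centralizer ({x} : Set G))
  have hRW : RX ≤ W := fun z hz => hπR z (mem_subgroupOf.1 hz)
  let RW : Sylow l ↥W := (R.subtype hRX).subtype (by rwa [Sylow.coe_subtype])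
  have hconj : ∀ z ∈ RX, c₁ * z * c₁⁻¹ ∈ W := fun z hz => hcW z (hRW hz)
  have hp : IsPGroup l ↥((RX.map (MulAut.conj c₁).toMonoidHom).subgroupOf W) :=
    (((R.subtype hRX).2.to_le (by rw [Sylow.coe_subtype])).map
      (MulAut.conj c₁).toMonoidHom).comap_of_injective W.subtype Subtype.val_injective
  obtain ⟨RW', hRW'⟩ := hp.exists_le_sylow
  obtain ⟨m, hm⟩ := MulAction.exists_smul_eq ↥W RW' RW
  set d : ↥(centralizer ({x} : Set G)) := (m : ↥(centralizer ({x} : Set G))) * c₁ with hd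
  have hdR : (d : G) ∈ normalizer ((R : Subgroup G) : Set G) := by
    refine PSLTwo.Sylow.mem_normalizer_of_conj_mem fun z hz => ?_
    have hz1 : (⟨c₁ * ⟨z, hRX hz⟩ * c₁⁻¹, hconj _ (mem_subgroupOf.2 hz)⟩ : ↥W) ∈
        (RW' : Subgroup ↥W) :=
      hRW' (mem_subgroupOf.2 ⟨⟨z, hRX hz⟩, mem_subgroupOf.2 hz, rfl⟩)
    have hz2 := Subgroup.smul_mem_pointwise_smul (a := MulAut.conj m) _ _ hz1
    rw [← Sylow.coe_subgroup_smul, hm] at hz2
    have hz3 : (m : ↥(centralizer ({x} : Set G))) * (c₁ * ⟨z, hRX hz⟩ * c₁⁻¹) * (m : ↥(centralizer ({x} : Set G)))⁻¹ ∈ RX := by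
      rw [show RX = ((R.subtype hRX : Sylow l ↥(centralizer ({x} : Set G))) : Subgroup ↥(centralizer ({x} : Set G))) from (Sylow.coe_subtype _ _).symm]
      exact mem_subgroupOf.1 (by simpa only [RW, Sylow.coe_subtype] using hz2)
    have h4 := mem_subgroupOf.1 hz3
    simpa [hd, mul_assoc] using h4
  refine false_of_sylow hall C (by omega) hx hox R hxR (Or.inr ⟨hrel, (d : G), hdR,
    mem_centralizer_singleton_iff.1 d.2, k, hk, fun y hy => ?_⟩)
  refine (show ((d * ⟨y, hRX hy⟩ * d⁻¹ * (⟨y, hRX hy⟩ ^ k)⁻¹ : ↥(centralizer ({x} : Set G))) : G) ∈ fieldPart S from ?_)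
  refine hker _ ?_
  obtain ⟨i, hi⟩ := mem_zpowers_iff.1 (hπR ⟨y, hRX hy⟩ hy)
  obtain ⟨j, hj⟩ := mem_zpowers_iff.1 (m.2 : π (m : ↥(centralizer ({x} : Set G))) ∈ zpowers w)
  rw [map_mul, map_mul, map_mul, map_inv, map_inv, map_pow, hd, map_mul, hc₁, ← hi, ← hj]
  have e : w ^ j * c * w ^ i * (w ^ j * c)⁻¹ = (w ^ i) ^ k := by
    calc w ^ j * c * w ^ i * (w ^ j * c)⁻¹ = w ^ j * (c * w * c⁻¹) ^ i * (w ^ j)⁻¹ := by
          rw [conj_zpow]; group
      _ = w ^ j * (w ^ k) ^ i * (w ^ j)⁻¹ := by rw [hcw, mul_inv_cancel_right]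
      _ = _ := by
          rw [← zpow_natCast w k, ← zpow_natCast (w ^ i) k, ← zpow_mul, ← zpow_mul, mul_comm i,
            ← zpow_neg, ← zpow_add, ← zpow_add]
          congr 1
          ring
  rw [e, mul_inv_cancel]

/-- **No field automorphisms** when all Sylow subgroups are abelian. -/
theorem eq_of_allAb (hK : PropKnown.{u}) (hall : AllAb G) (C : Ctx S u E E₀)
    (ih : ∀ (H : Type u) [Group H] [Finite H], Nat.card H < Nat.card G → IsJR H → AllAb H →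
      Cfsg.Spor.IsoJ1 H) : E = E₀ := by
  rw [C.eq_iff_fieldPart]
  by_contra hne
  obtain ⟨l, hl, hld⟩ := Nat.exists_prime_and_dvd
    (fun h => hne (Subgroup.card_eq_one.1 h) : Nat.card ↥(fieldPart S) ≠ 1)
  haveI := Fact.mk hl
  obtain ⟨⟨x, hx⟩, hx'⟩ := exists_prime_orderOf_dvd_card' l hld
  have hox : orderOf x = l := by rwa [← Subgroup.orderOf_mk x hx]
  have hl2 : l ≠ 2 := fun h => by
    have h2 := Nat.odd_iff.1 ((odd_fieldPart S).of_dvd_nat hld)
    omega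
  have hx1 : x ≠ 1 := fun h1 => hl.ne_one (by rw [← hox, h1, orderOf_one])
  have hfin : ∀ m : ℕ, ¬ l ∣ m → Nat.card ↥(centralizer ({x} : Set G)) ∣ m * Nat.card ↥(fieldPart S) →
      False := by
    intro m hm hX
    obtain ⟨P, hP⟩ := (IsPGroup.of_card (G := zpowers (⟨x, hx⟩ : ↥(fieldPart S))) (n := 1)
      (by rw [Nat.card_zpowers, hx', pow_one])).exists_le_sylow
    obtain ⟨R, hR⟩ := exists_sylow_eq hall (P.2.map (fieldPart S).subtype)
      (⟨_, hP (mem_zpowers _), rfl⟩ : x ∈ (P : Subgroup ↥(fieldPart S)).map (fieldPart S).subtype)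
      (c := m) (n := Nat.card ↥(fieldPart S)) hm hX
      ⟨(P : Subgroup ↥(fieldPart S)).index, P.not_dvd_index, by
        rw [card_map_of_injective (fieldPart S).subtype_injective, index_mul_card]⟩
    exact false_of_sylow hall C hl2 hx hox R (hR.symm ▸ ⟨_, hP (mem_zpowers _), rfl⟩)
      (Or.inl (hR ▸ map_subtype_le _))
  rcases struct hK hall C hx hx1 ih with ⟨hX, h12⟩ | ⟨h60, hX, π, hπ, hker⟩
  · have h3 : l ≠ 3 := by
      rintro rfl
      exact not_dvd_cent hall C hl2 hx hox (by rw [h12]; norm_num) (by rw [h12]; norm_num)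
    by_cases hd : l ∣ 1512
    · have h' : l ∣ 2 ^ 3 * (3 ^ 3 * 7) := by norm_num; exact hd
      rcases hl.dvd_mul.1 h' with h | h
      · exact hl2 ((Nat.prime_dvd_prime_iff_eq hl Nat.prime_two).1 (hl.dvd_of_dvd_pow h))
      rcases hl.dvd_mul.1 h with h | h
      · exact h3 ((Nat.prime_dvd_prime_iff_eq hl Nat.prime_three).1 (hl.dvd_of_dvd_pow h))
      obtain rfl := (Nat.prime_dvd_prime_iff_eq hl (by norm_num)).1 h
      exact false_seven hall C hx hox hX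
    · exact hfin _ hd hX
  · have h35 : l ≠ 3 ∧ l ≠ 5 := by
      constructor <;> rintro rfl <;>
        exact not_dvd_cent hall C hl2 hx hox (by rw [h60]; norm_num) (by rw [h60]; norm_num)
    by_cases hd : l ∣ 175560
    · have h' : l ∣ 2 ^ 3 * (3 * (5 * (7 * (11 * 19)))) := by norm_num; exact hd
      have hq : ∀ {p : ℕ}, p.Prime → l ∣ p → l = p := fun hp h =>
        (Nat.prime_dvd_prime_iff_eq hl hp).1 h
      rcases hl.dvd_mul.1 h' with h | h
      · exact hl2 (hq Nat.prime_two (hl.dvd_of_dvd_pow h))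
      rcases hl.dvd_mul.1 h with h | h
      · exact h35.1 (hq Nat.prime_three h)
      rcases hl.dvd_mul.1 h with h | h
      · exact h35.2 (hq (by norm_num) h)
      refine false_J1 hall C ?_ hx hox π hπ hker
      rcases hl.dvd_mul.1 h with h | h
      · exact Or.inl (hq (by norm_num) h)
      rcases hl.dvd_mul.1 h with h | h
      · exact Or.inr (Or.inl (hq (by norm_num) h))
      · exact Or.inr (Or.inr (hq (by norm_num) h))
    · exact hfin _ hd hX

end Cfsg.Agent.Lib.AllAbelian80
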